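import Cfsg.Agent.Lib.DefectLie.Forms
import Cfsg.Agent.Lib.SqDerived.Orth
import Cfsg.Agent.Lib.ClassicalSimple.OrthMatrix
import Cfsg.Agent.Lib.ClassicalSimple.SympMatrix
import Cfsg.Agent.Lib.ClassicalSimple.UnitaryMatrix
import Cfsg.Agent.Lib.Forms.Quad
import Cfsg.Prelude.Def_LieTypeChar

/-!
The six classical families have radical subgroups with central p-regular centralisers.
-/

set_option autoImplicit false
set_option linter.unusedSectionVars false

namespace Cfsg.Agent.DefectLie

open Cfsg.Agent.ClassicalSimple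

variable (p : ℕ) [Fact p.Prime]

section Linear

variable {n : ℕ} {F : Type*} [Field F] [Fintype F] [CharP F p]

/-- The natural representation. -/
noncomputable def slEnd (n : ℕ) (F : Type*) [Field F] :
    Matrix.SpecialLinearGroup (Fin n) F →* Module.End F (Fin n → F) where
  toFun g := Matrix.toLin' g.1
  map_one' := Matrix.toLin'_one
  map_mul' g h := Matrix.toLin'_mul g.1 h.1

theorem hasRadicals_sl (hn : 2 ≤ n) : HasRadicals p (Matrix.SpecialLinearGroup (Fin n) F) := by
  have : Nonempty (Fin n) := ⟨⟨0, by omega⟩⟩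
  refine hasRadicals_linear p (f := slEnd n F) (fun g h e => Subtype.ext (Matrix.toLin'.injective e))
    fun u φ hu => ?_
  refine ⟨⟨LinearMap.toMatrix' (LinearMap.transvection φ u), ?_⟩, fun v => ?_⟩
  · rw [LinearMap.det_toMatrix', LinearMap.transvection.det, hu, add_zero]
  · show Matrix.toLin' (LinearMap.toMatrix' (LinearMap.transvection φ u)) v = _
    rw [Matrix.toLin'_toMatrix', LinearMap.transvection.apply]

end Linear

section Symp

variable {F V : Type*} [Field F] [AddCommGroup V] [Module F V] [Finite V] [CharP F p]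
  {B : LinearMap.BilinForm F V}

theorem hasRadicals_spB [Finite (SpB B)] (hA : LinearMap.IsAlt B) (hN : B.Nondegenerate)
    (h3 : 3 ≤ Module.finrank F V) : HasRadicals p (SpB B) := by
  set f := DistribMulAction.toModuleEnd F (S := SpB B) V
  have hd : IsoData (σ := RingHom.id F) (LinearMap.flip B) f :=
    { inj := fun g h e => SpB.ext' fun v => LinearMap.congr_fun e v
      iso := fun g x y => form_smul g y x
      symm := fun x y e => by
        show B x y = 0
        rw [← hA.neg y x, show B y x = 0 from e, neg_zero]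
      sep := (injective_iff_map_eq_zero _).2 fun x hx =>
        hN.2 x fun y => LinearMap.congr_fun hx y
      dim := h3 }
  intro D hD hne
  set W := fixedRadical (LinearMap.flip B) f D
  have hWP : W ≤ perp (LinearMap.flip B) W := fixedRadical_le_perp D
  refine exists_radical_of_roots p hd (fixedRadical_ne_bot p hd hD hne) hWP
    (fun g hg v hv => apply_mem_fixedRadical hd hg hv) one_ne_zero (fun u hu w hw => ?_)
    fun _ x hx => line_of_transvection hd hWP hx fun u _ =>
      ⟨spTransv hA u 1, 1, one_ne_zero, fun v => spTransv_smul hA u 1 v⟩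
  have hwu : B w u = 0 := (mem_perp _).1 hw u hu
  have huw : B u w = 0 := by rw [← hA.neg w u, hwu, neg_zero]
  refine ⟨spTransv hA (u + w) 1 * spTransv hA w (-1) * spTransv hA u (-1), 0, fun v => ?_⟩
  show (spTransv hA (u + w) 1 * spTransv hA w (-1) * spTransv hA u (-1)) • v =
    v + B v u • w + (0 * B v u + 1 * B v w) • u
  simp only [mul_smul, spTransv_smul, map_add, map_smul, LinearMap.add_apply,
    LinearMap.smul_apply, smul_eq_mul, hA.self_eq_zero, hwu, huw]
  module

end Symp

section Unitary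

variable {F V : Type*} [Field F] [AddCommGroup V] [Module F V] [Finite V] [CharP F p]
  {σ : F →+* F} {h : V →ₛₗ[σ] V →ₗ[F] F}

theorem hasRadicals_suh [Finite (SUH h)] (hh : IsUnitaryForm σ h)
    (h3 : 3 ≤ Module.finrank F V) : HasRadicals p (SUH h) := by
  have : RingHomSurjective σ := ⟨fun a => ⟨σ a, hh.invol a⟩⟩
  set f := DistribMulAction.toModuleEnd F (S := SUH h) V
  have hd : IsoData h f :=
    { inj := fun g k e => Subtype.ext (UH.ext' fun v => LinearMap.congr_fun e v)
      iso := fun g x y => uh_smul_smul g.1 x y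
      symm := fun x y e => hh.comm_zero e
      sep := (injective_iff_map_eq_zero _).2 fun x hx =>
        hh.sep x fun y => LinearMap.congr_fun hx y
      dim := h3 }
  intro D hD hne
  set W := fixedRadical h f D
  have hWP : W ≤ perp h W := fixedRadical_le_perp D
  refine exists_radical_of_roots p hd (fixedRadical_ne_bot p hd hD hne) hWP
    (fun g hg v hv => apply_mem_fixedRadical hd hg hv) (neg_ne_zero.2 one_ne_zero)
    (fun u hu w hw => ?_)
    fun _ x hx => line_of_transvection hd hWP hx fun u hu => ?_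
  · obtain ⟨d, hdd⟩ := hh.exists_trace_one
    have huu : h u u = 0 := (mem_perp _).1 (hWP hu) u hu
    have huw : h u w = 0 := (mem_perp _).1 hw u hu
    have ha : -(d * h w w) + σ (-(d * h w w)) + h w w = 0 := by
      rw [map_neg, map_mul, hh.σ_self]
      linear_combination -h w w * hdd
    refine ⟨⟨_, uRootElt_det hh huu huw ha⟩, -(d * h w w), fun v => ?_⟩
    show uRootElt hh u w _ huu huw ha • v = _
    rw [uRootElt_smul, neg_one_mul, ← sub_eq_add_neg]
  · obtain ⟨t, ht0, ht⟩ := hh.exists_skew
    have huu : h u u = 0 := (mem_perp _).1 (hWP hu) u hu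
    have ha : t + σ t + h (0 : V) 0 = 0 := by simpa using ht
    refine ⟨⟨_, uRootElt_det hh huu (map_zero _) ha⟩, t, ht0, fun v => ?_⟩
    show uRootElt hh u 0 t huu (map_zero _) ha • v = _
    rw [uRootElt_smul]
    simp

end Unitary

section Orth

variable {ι : Type} [Fintype ι] [DecidableEq ι] {F : Type*} [Field F] [Fintype F] [CharP F p]
  (Q : QuadraticForm F (ι → F))

/-- The natural representation of `Omega`. -/
noncomputable def omegaEnd : Cfsg.Omega F ⇑Q →* Module.End F (ι → F) :=
  (DistribMulAction.toModuleEnd F (S := OQ Q) (ι → F)).comp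
    ((isometryEquiv Q).toMonoidHom.comp (Cfsg.Omega F ⇑Q).subtype)

/-- The vectors of a subspace with zero form, where the polar form vanishes. -/
def singPart (W : Submodule F (ι → F)) (hW : ∀ u ∈ W, ∀ v ∈ W, bil Q u v = 0) :
    Submodule F (ι → F) where
  carrier := {v | v ∈ W ∧ Q v = 0}
  add_mem' := fun {a b} ha hb => ⟨add_mem ha.1 hb.1, by
    rw [quad_add, ha.2, hb.2, hW a ha.1 b hb.1, add_zero, add_zero]⟩
  zero_mem' := ⟨W.zero_mem, map_zero _⟩
  smul_mem' := fun c v hv => ⟨W.smul_mem c hv.1, by rw [quad_smul_vec, hv.2, mul_zero]⟩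

theorem exists_singular_radical (hQ : (QuadraticMap.polarBilin Q).Nondegenerate)
    (h5 : 5 ≤ Fintype.card ι) (hd : IsoData (σ := RingHom.id F) (bil Q) (omegaEnd Q))
    {D : Subgroup (Cfsg.Omega F ⇑Q)} (hD : IsPGroup p D) (hne : D ≠ ⊥) :
    ∃ v ∈ fixedRadical (bil Q) (omegaEnd Q) D, v ≠ 0 ∧ Q v = 0 := by
  by_cases h2 : (2 : F) ≠ 0
  · obtain ⟨v, hv, hv0⟩ := Submodule.exists_mem_ne_zero_of_ne_bot
      (fixedRadical_ne_bot p hd hD hne)
    refine ⟨v, hv, hv0, ?_⟩
    have := (mem_perp _).1 (fixedRadical_le_perp D hv) v hv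
    rw [bil_self] at this
    exact (mul_eq_zero.1 this).resolve_left h2
  push Not at h2
  obtain rfl : p = 2 := by
    have : ((2 : ℕ) : F) = 0 := by exact_mod_cast h2
    exact (Nat.prime_dvd_prime_iff_eq Fact.out Nat.prime_two).1 ((CharP.cast_eq_zero_iff F p 2).1 this)
  -- a central involution
  have : Nontrivial D := (Subgroup.nontrivial_iff_ne_bot D).2 hne
  have := hD.center_nontrivial
  obtain ⟨k, hk⟩ := (hD.to_subgroup (Subgroup.center D)).exists_card_eq
  have hk0 : k ≠ 0 := fun e => by
    rw [e, pow_zero] at hk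
    exact (Finite.one_lt_card (α := Subgroup.center D)).ne' hk
  obtain ⟨z, hz⟩ := exists_prime_orderOf_dvd_card' (G := Subgroup.center D) 2
    (hk ▸ dvd_pow_self 2 hk0)
  set d : Cfsg.Omega F ⇑Q := ((z : D) : Cfsg.Omega F ⇑Q)
  have hdord : orderOf d = 2 := by rw [← hz, Subgroup.orderOf_coe, Subgroup.orderOf_coe]
  set g : OQ Q := isometryEquiv Q d.1
  have hg : ∀ v, omegaEnd Q d v = g • v := fun v => rfl
  have hgg : ∀ v, g • g • v = v := fun v => by
    rw [← hg, ← hg, ← Module.End.mul_apply, ← map_mul, ← pow_two, ← hdord, pow_orderOf_eq_one,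
      map_one, Module.End.one_apply]
  set S := LinearMap.range (subOne g)
  have hrank : 2 ≤ Module.finrank F S := by
    have h1 := (mem_omega_iff_even_rank Q hQ (Or.inr (by omega)) d.1).1 d.2
    have h3 := LinearMap.finrank_range_add_finrank_ker (subOne g)
    rw [Module.finrank_fintype_fun_eq_card, ← rank_sub_one_add_fix Q d.1] at h3
    have h4 : Module.finrank F S = _ := Nat.add_right_cancel h3
    rw [← h4] at h1
    have h0 : Module.finrank F S ≠ 0 := fun e => by
      have hbot : S = ⊥ := Submodule.finrank_eq_zero.1 e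
      have : omegaEnd Q d = 1 := LinearMap.ext fun v => by
        rw [hg, Module.End.one_apply, ← sub_eq_zero, ← subOne_apply]
        exact (Submodule.eq_bot_iff _).1 hbot _ ⟨v, rfl⟩
      rw [← map_one (omegaEnd Q)] at this
      rw [hd.inj this, orderOf_one] at hdord
      exact absurd hdord (by norm_num)
    obtain ⟨j, hj⟩ := h1
    omega
  have hiso : ∀ a ∈ S, ∀ b ∈ S, bil Q a b = 0 := by
    rintro _ ⟨x, rfl⟩ _ ⟨y, rfl⟩
    have h1 : bil Q x (g • y) = bil Q (g • x) y := by
      conv_rhs => rw [← hgg y, bil_smul_smul]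
    rw [subOne_apply, subOne_apply]
    simp only [map_sub, LinearMap.sub_apply, bil_smul_smul, h1]
    linear_combination (bil Q x y - bil Q (g • x) y) * h2
  have hSperp : ∀ a ∈ S, a ∈ perp (bil Q) (fixedSpace (omegaEnd Q) D) := by
    rintro _ ⟨x, rfl⟩
    exact sub_mem_perp_fixedSpace hd (z : D).2 x
  have hSinv : ∀ e ∈ D, ∀ a ∈ S, omegaEnd Q e a ∈ S := by
    rintro e he _ ⟨x, rfl⟩
    refine ⟨omegaEnd Q e x, ?_⟩
    have hc : d * e = e * d := congrArg Subtype.val
      (Subgroup.mem_center_iff.1 (z : Subgroup.center D).2 ⟨e, he⟩).symm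
    rw [subOne_apply, subOne_apply, map_sub, ← hg, ← hg, ← Module.End.mul_apply,
      ← Module.End.mul_apply, ← map_mul, ← map_mul, hc]
  set T := singPart Q S hiso
  have hT : T.toAddSubgroup ≠ ⊥ := by
    intro e
    have hinj : Function.Injective fun a : S => Q (a : ι → F) := fun a b hab => by
      have hm : (a : ι → F) - b ∈ T := ⟨sub_mem a.2 b.2, by
        rw [quad_sub, hiso _ a.2 _ b.2, sub_zero, show Q (a : ι → F) = Q b from hab]
        linear_combination Q (b : ι → F) * h2⟩
      exact Subtype.ext (sub_eq_zero.1 ((AddSubgroup.eq_bot_iff_forall _).1 e _ hm))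
    have hle := Nat.card_le_card_of_injective _ hinj
    rw [Module.natCard_eq_pow_finrank (K := F) (V := S)] at hle
    have h1 := (Nat.pow_le_pow_right Nat.card_pos hrank).trans hle
    have h2' : 1 < Nat.card F := Finite.one_lt_card
    nlinarith
  obtain ⟨v, hv, hv0, hvfix⟩ := exists_fixed (f := omegaEnd Q) 2 hD _ hT fun e he a ha =>
    ⟨hSinv e he a ha.1, (quad_smul (isometryEquiv Q e.1) a).trans ha.2⟩
  exact ⟨v, ⟨hvfix, hSperp v hv.1⟩, hv0, hv.2⟩

theorem hasRadicals_omega (hQ : (QuadraticMap.polarBilin Q).Nondegenerate)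
    (h5 : 5 ≤ Fintype.card ι) : HasRadicals p (Cfsg.Omega F ⇑Q) := by
  have hN := bil_nondegenerate Q hQ
  have h5' : 5 ≤ Module.finrank F (ι → F) := by rwa [Module.finrank_fintype_fun_eq_card]
  have hsieg : ∀ {u w : ι → F} (hu : Q u = 0) (hw : bil Q u w = 0), ∃ g : Cfsg.Omega F ⇑Q,
      isometryEquiv Q g.1 = siegel hu hw := by
    intro u w hu hw
    have : siegel hu hw ∈ (Cfsg.Omega F ⇑Q).map (isometryEquiv Q).toMonoidHom := by
      rw [show (Cfsg.Omega F ⇑Q).map (isometryEquiv Q).toMonoidHom = siegelGroup Q from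
        (map_commutator_top (isometryEquiv Q)).trans (commutator_eq_siegelGroup hN h5')]
      exact siegel_mem hu hw
    obtain ⟨k, hk, e⟩ := this
    exact ⟨⟨k, hk⟩, e⟩
  have hd : IsoData (σ := RingHom.id F) (bil Q) (omegaEnd Q) :=
    { inj := fun g h e => Subtype.ext ((isometryEquiv Q).injective
        (OQ.ext' fun v => LinearMap.congr_fun e v))
      iso := fun g x y => bil_smul_smul (isometryEquiv Q g.1) x y
      symm := fun x y e => (bil_comm y x).trans e
      sep := (injective_iff_map_eq_zero _).2 fun x hx =>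
        hN.1 x fun y => LinearMap.congr_fun hx y
      dim := by omega }
  intro D hD hne
  have hiso : ∀ u ∈ fixedRadical (bil Q) (omegaEnd Q) D,
      ∀ v ∈ fixedRadical (bil Q) (omegaEnd Q) D, bil Q u v = 0 := fun u hu v hv =>
    (mem_perp _).1 (fixedRadical_le_perp D hv) u hu
  set W := singPart Q (fixedRadical (bil Q) (omegaEnd Q) D) hiso
  have hW : W ≠ ⊥ := by
    obtain ⟨v, hv, hv0, hQv⟩ := exists_singular_radical p Q hQ h5 hd hD hne
    exact fun e => hv0 ((Submodule.mem_bot F).1 (show v ∈ (⊥ : Submodule F (ι → F)) from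
      e ▸ ⟨hv, hQv⟩))
  have hWP : W ≤ perp (bil Q) W := fun v hv => (mem_perp _).2 fun u hu => hiso u hu.1 v hv.1
  have hT : HasRoots (omegaEnd Q) (bil Q) W (-1) := fun u hu w hw => by
    obtain ⟨g, hg⟩ := hsieg hu.2 ((mem_perp _).1 hw u hu)
    refine ⟨g, -Q w, fun v => ?_⟩
    show isometryEquiv Q g.1 • v = _
    rw [hg, siegel_smul, bil_comm v u, bil_comm v w]
    module
  refine exists_radical_of_roots p hd hW hWP (fun g hg v hv =>
    ⟨apply_mem_fixedRadical hd hg hv.1, (quad_smul (isometryEquiv Q g.1) v).trans hv.2⟩)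
    (neg_ne_zero.2 one_ne_zero) hT fun hle x hx =>
      line_of_planes hd hWP (neg_ne_zero.2 one_ne_zero) hT hx ?_
  have := finrank_of_perp_eq hd.sep (le_antisymm hle hWP)
  omega

end Orth

section Families

variable {G : Type*} [Group G] [Finite G]

theorem extremal_of_cover {X : Type*} [Group X] [Finite X] (h : HasRadicals p X)
    (e : G ≃* X ⧸ Subgroup.center X) : Extremal p G :=
  Extremal.equiv p e.symm
    (extremal_of_hasRadicals p (h.quotient p (Subgroup.center X) le_rfl))

theorem HasRadicals.equiv {X Y : Type*} [Group X] [Group Y] (e : X ≃* Y) (h : HasRadicals p Y) :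
    HasRadicals p X := by
  intro D hD hne
  obtain ⟨R, hR, hinv, hcen⟩ := h (D.map e.toMonoidHom) (hD.map _) fun h0 =>
    hne ((Subgroup.map_eq_bot_iff_of_injective D e.injective).1 h0)
  refine ⟨R.comap e.toMonoidHom, hR.comap_of_injective _ e.injective, fun g hg r hr => ?_,
    fun x hxc hx => ?_⟩
  · show e (g * r * g⁻¹) ∈ R
    rw [map_mul, map_mul, map_inv]
    refine hinv (e g) (fun d => ?_) _ hr
    constructor
    · rintro ⟨d, hd, rfl⟩
      exact ⟨_, (hg d).1 hd, by simp⟩
    · rintro ⟨d', hd', ed⟩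
      refine ⟨e.symm d, (hg _).2 ?_, by simp⟩
      have : g * e.symm d * g⁻¹ = d' := e.injective (by simpa using ed.symm)
      rw [this]
      exact hd'
  · have := hcen (e x) (fun r hr => by
      have := congrArg e (hxc (e.symm r) (by simpa using hr))
      simpa using this) (by rwa [e.orderOf_eq])
    refine Subgroup.mem_center_iff.2 fun y => e.injective ?_
    rw [map_mul, map_mul]
    exact Subgroup.mem_center_iff.1 this (e y)

theorem extremal_pomega {ι : Type} [Fintype ι] [DecidableEq ι] {F : Type*} [Field F] [Fintype F]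
    [CharP F p] (Q : QuadraticForm F (ι → F)) (f : (ι → F) → F) (hQf : ⇑Q = f)
    (hQ : (QuadraticMap.polarBilin Q).Nondegenerate) (h5 : 5 ≤ Fintype.card ι)
    (e : G ≃* Cfsg.POmega F f) : Extremal p G := by
  subst hQf
  exact extremal_of_cover p (hasRadicals_omega p Q hQ h5) e

theorem extremal_psl (h : Cfsg.IsPSLChar p G) : Extremal p G := by
  obtain ⟨F, _, _, _, n, hn, -, ⟨e⟩⟩ := h
  exact extremal_of_cover p (hasRadicals_sl p hn) e

theorem extremal_psp (h : Cfsg.IsPSpChar p G) : Extremal p G := by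
  obtain ⟨F, _, _, _, m, hm, -, ⟨e⟩⟩ := h
  have := Finite.of_equiv _ (symplecticEquiv (m := m) (F := F)).toEquiv
  refine extremal_of_cover p (HasRadicals.equiv p (symplecticEquiv (m := m) (F := F))
    (hasRadicals_spB p sympBilin_isAlt sympBilin_nondegenerate ?_)) e
  rw [Module.finrank_fintype_fun_eq_card, Fintype.card_sum, Fintype.card_fin]
  omega

theorem extremal_psu (h : Cfsg.IsPSUChar p G) : Extremal p G := by
  obtain ⟨F, _, _, _, n, q, hF, hn, -, ⟨e⟩⟩ := h
  have := Finite.of_equiv _ (suEquiv hF (n := n)).toEquiv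
  refine extremal_of_cover p (HasRadicals.equiv p (suEquiv hF (n := n))
    (hasRadicals_suh p (hermB_isUnitary hF) ?_)) e
  rw [Module.finrank_fin_fun]
  exact hn

theorem extremal_pomegaOdd (h : Cfsg.IsPOmegaOddChar p G) : Extremal p G := by
  obtain ⟨F, _, _, _, m, hm, hodd, ⟨e⟩⟩ := h
  have h2 : (2 : F) ≠ 0 := by
    intro h2
    refine absurd ((FiniteField.even_card_iff_char_two (F := F)).1 ?_) (by
      have := Nat.odd_iff.1 hodd; omega)
    by_contra hne
    exact Ring.two_ne_zero hne h2
  exact extremal_pomega p (Forms.quadOdd m F) _ (funext Forms.quadOdd_apply)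
    (Forms.quadOdd_nondegenerate h2 m)
    (by simp only [Fintype.card_sum, Fintype.card_fin, Fintype.card_unit]; omega) e

theorem extremal_pomegaPlus (h : Cfsg.IsPOmegaPlusChar p G) : Extremal p G := by
  obtain ⟨F, _, _, _, m, hm, ⟨e⟩⟩ := h
  exact extremal_pomega p (Forms.quadPlus m F) _ (funext Forms.quadPlus_apply)
    (Forms.quadPlus_nondegenerate m)
    (by simp only [Fintype.card_sum, Fintype.card_fin]; omega) e

theorem extremal_pomegaMinus (h : Cfsg.IsPOmegaMinusChar p G) : Extremal p G := by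
  obtain ⟨F, _, _, _, m, a, b, hm, hab, ⟨e⟩⟩ := h
  exact extremal_pomega p (Forms.quadMinus (m - 1) F a b) _ (funext Forms.quadMinus_apply)
    (Forms.quadMinus_nondegenerate (m - 1) hab)
    (by simp only [Fintype.card_sum, Fintype.card_fin]; omega) e

end Families

end Cfsg.Agent.DefectLie
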