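import Cfsg.Agent.Lib.BlocksX.Green
import Cfsg.Agent.Lib.Blocks.Defect
import Cfsg.Agent.Lib.Blocks.FirstMain

/-!
When every p-block of a group has defect zero or full defect: the defect groups are radical
intersections of two Sylow subgroups along a centralising element of order prime to p.
-/

set_option autoImplicit false
set_option linter.unusedSectionVars false

namespace Cfsg.Agent.DefectLie

open Cfsg

variable (p : ℕ) {G G' : Type*} [Group G] [Group G']

/-- For every nontrivial p-subgroup an invariant p-subgroup whose centraliser has no noncentral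
element of order prime to p. -/
def HasRadicals (G : Type*) [Group G] : Prop :=
  ∀ D : Subgroup G, IsPGroup p D → D ≠ ⊥ → ∃ R : Subgroup G, IsPGroup p R ∧
    (∀ g : G, (∀ d, d ∈ D ↔ g * d * g⁻¹ ∈ D) → ∀ r ∈ R, g * r * g⁻¹ ∈ R) ∧
    ∀ x : G, (∀ r ∈ R, x * r = r * x) → ¬ p ∣ orderOf x → x ∈ Subgroup.center G

/-- The two properties of a defect group used below. -/
def Shaped (D : Subgroup G) : Prop :=
  IsPGroup p D ∧
    (∀ R : Subgroup G, IsPGroup p R → (∀ r ∈ R, ∀ d, d ∈ D ↔ r * d * r⁻¹ ∈ D) →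
      (∀ g : G, (∀ d, d ∈ D ↔ g * d * g⁻¹ ∈ D) → ∀ r ∈ R, g * r * g⁻¹ ∈ R) → R ≤ D) ∧
    ∀ P : Sylow p G, D ≤ P → ∃ x, ¬ p ∣ orderOf x ∧ (∀ d ∈ D, x * d = d * x) ∧
      (P : Subgroup G) ⊓ (P : Subgroup G).map (MulAut.conj x).toMonoidHom = D

/-- All shaped subgroups are trivial or Sylow. -/
def Extremal (G : Type*) [Group G] : Prop :=
  ∀ D : Subgroup G, Shaped p D → D = ⊥ ∨ ∃ P : Sylow p G, (P : Subgroup G) = D

theorem normalizer_step [Finite G] [Fact p.Prime] {D R : Subgroup G} (hD : Shaped p D)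
    (hR : IsPGroup p R)
    (hinv : ∀ g : G, (∀ d, d ∈ D ↔ g * d * g⁻¹ ∈ D) → ∀ r ∈ R, g * r * g⁻¹ ∈ R) : R ≤ D := by
  have hDn : D ≤ Subgroup.normalizer (R : Set G) := fun d hd => by
    have key : ∀ g ∈ D, ∀ r ∈ R, g * r * g⁻¹ ∈ R := fun g hg =>
      hinv g fun e => Subgroup.mem_normalizer_iff.1 (Subgroup.le_normalizer hg) e
    refine Subgroup.mem_normalizer_iff.2 fun r => ⟨key d hd r, fun hr => ?_⟩
    have := key d⁻¹ (D.inv_mem hd) _ hr
    simpa [mul_assoc] using this
  have hK : IsPGroup p ↥(D ⊔ R) := hD.1.to_sup_of_normal_right' hR hDn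
  by_contra hne
  have hlt : D.subgroupOf (D ⊔ R) < ⊤ := lt_top_iff_ne_top.2 fun h =>
    hne (le_sup_right.trans (Subgroup.subgroupOf_eq_top.1 h))
  have : Group.IsNilpotent ↥(D ⊔ R) := hK.isNilpotent
  obtain ⟨q, hqN, hqD⟩ := SetLike.exists_of_lt
    (Group.normalizerCondition_of_isNilpotent (G := ↥(D ⊔ R)) _ hlt)
  obtain ⟨q, hq⟩ := q
  rw [Subgroup.mem_normalizer_iff] at hqN
  have hqn : ∀ d, d ∈ D ↔ q * d * q⁻¹ ∈ D := fun d => by
    constructor
    · intro hd
      exact Subgroup.mem_subgroupOf.1 ((hqN ⟨d, Subgroup.mem_sup_left hd⟩).1 hd)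
    · intro hd
      have hd' : d ∈ D ⊔ R := by
        have := mul_mem (mul_mem (inv_mem hq) (Subgroup.mem_sup_left hd : _ ∈ D ⊔ R)) hq
        simpa [mul_assoc] using this
      exact (hqN ⟨d, hd'⟩).2 (Subgroup.mem_subgroupOf.2 hd)
  have hq' : q ∈ ((D ⊔ R : Subgroup G) : Set G) := hq
  rw [Subgroup.coe_mul_of_left_le_normalizer_right D R hDn] at hq'
  obtain ⟨d, hd, r, hr, e⟩ := Set.mem_mul.1 hq'
  subst e
  have hrn : ∀ e, e ∈ D ↔ r * e * r⁻¹ ∈ D := fun e => by
    rw [hqn e]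
    constructor <;> intro he
    · have := mul_mem (mul_mem (inv_mem hd) he) hd
      simpa [mul_assoc] using this
    · have := mul_mem (mul_mem hd he) (inv_mem hd)
      simpa [mul_assoc] using this
  let T : Subgroup G := R ⊓ Subgroup.normalizer (D : Set G)
  have hT : T ≤ D := hD.2.1 T (hR.to_le inf_le_left)
    (fun t ht e => Subgroup.mem_normalizer_iff.1 ht.2 e) fun g hg t ht =>
    ⟨hinv g hg t ht.1, Subgroup.mul_mem _ (Subgroup.mul_mem _ (Subgroup.mem_normalizer_iff.2 hg) ht.2)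
      (Subgroup.inv_mem _ (Subgroup.mem_normalizer_iff.2 hg))⟩
  exact hqD (Subgroup.mem_subgroupOf.2 (mul_mem hd (hT ⟨hr, Subgroup.mem_normalizer_iff.2 hrn⟩)))

theorem extremal_of_hasRadicals [Finite G] [Fact p.Prime] (h : HasRadicals p G) : Extremal p G := by
  intro D hD
  refine or_iff_not_imp_left.2 fun hne => ?_
  obtain ⟨R, hR, hinv, hcen⟩ := h D hD.1 hne
  have hRD := normalizer_step p hD hR hinv
  obtain ⟨P, hP⟩ := hD.1.exists_le_sylow
  obtain ⟨x, hx, hxc, e⟩ := hD.2.2 P hP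
  have hxz := hcen x (fun r hr => hxc r (hRD hr)) hx
  refine ⟨P, le_antisymm (fun y hy => ?_) hP⟩
  rw [← e]
  refine ⟨hy, ⟨y, hy, ?_⟩⟩
  show x * y * x⁻¹ = y
  rw [← Subgroup.mem_center_iff.1 hxz y, mul_inv_cancel_right]

theorem extremal_of_ti [Finite G] [Fact p.Prime] (P : Sylow p G)
    (hTI : ∀ x : G, (∀ u, u ∈ (P : Subgroup G) → x⁻¹ * u * x ∈ (P : Subgroup G)) ∨
      ∀ u ∈ (P : Subgroup G), x⁻¹ * u * x ∈ (P : Subgroup G) → u = 1) : Extremal p G := by
  intro D hD
  obtain ⟨Q, hQ⟩ := hD.1.exists_le_sylow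
  obtain ⟨x, -, -, e⟩ := hD.2.2 Q hQ
  obtain ⟨c, rfl⟩ := MulAction.exists_smul_eq G P Q
  have hmem : ∀ y, y ∈ ((c • P : Sylow p G) : Subgroup G) ↔ c⁻¹ * y * c ∈ (P : Subgroup G) := fun y => by
    rw [Sylow.coe_subgroup_smul, Subgroup.mem_pointwise_smul_iff_inv_smul_mem]
    simp
  rcases hTI (c⁻¹ * x * c) with h | h
  · refine Or.inr ⟨c • P, le_antisymm (fun y hy => ?_) hQ⟩
    rw [← e]
    refine ⟨hy, ⟨x⁻¹ * y * x, ?_, by simp [mul_assoc]⟩⟩
    rw [SetLike.mem_coe, hmem]
    have := h _ ((hmem y).1 hy)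
    simpa [mul_assoc] using this
  · left
    rw [← e, Subgroup.eq_bot_iff_forall]
    rintro _ ⟨hy, z, hz, rfl⟩
    rw [SetLike.mem_coe, hmem] at hz
    replace hy := (hmem _).1 hy
    simp only [MulEquiv.coe_toMonoidHom, MulAut.conj_apply] at hy ⊢
    have := h _ hy (by simpa [mul_assoc] using hz)
    simpa [mul_assoc] using congrArg (fun t => c * t * c⁻¹) this

theorem Shaped.comap [Finite G] [Finite G'] [Fact p.Prime] {D : Subgroup G'} (e : G ≃* G') (hD : Shaped p D) :
    Shaped p (D.comap e.toMonoidHom) := by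
  obtain ⟨hp, hrad, hgr⟩ := hD
  have hord : ∀ x, orderOf (e.symm x) = orderOf x := fun x => e.symm.orderOf_eq x
  refine ⟨hp.comap_of_injective _ e.injective, fun R hR hRn hinv r hr => ?_, fun P hP => ?_⟩
  · refine hrad (R.map e.toMonoidHom) (hR.map _) ?_ ?_ ⟨r, hr, rfl⟩
    · rintro _ ⟨s, hs, rfl⟩ d
      have := hRn s hs (e.symm d)
      simpa using this
    · rintro g hg _ ⟨s, hs, rfl⟩
      refine ⟨e.symm g * s * (e.symm g)⁻¹, hinv _ (fun d => ?_) s hs, by simp⟩
      have := hg (e d)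
      simpa using this
  · obtain ⟨x, hx, hxc, eD⟩ := hgr (P.mapSurjective (f := e.toMonoidHom) e.surjective) (by
      intro d hd
      exact ⟨e.symm d, hP (by simpa using hd), by simp⟩)
    refine ⟨e.symm x, by rwa [hord], fun d hd => e.injective (by simpa using hxc _ hd), ?_⟩
    rw [← eD]
    ext y
    simp only [Subgroup.mem_comap, Subgroup.mem_inf, Subgroup.mem_map,
      MulEquiv.coe_toMonoidHom, MulAut.conj_apply]
    constructor
    · rintro ⟨hy, z, hz, rfl⟩
      exact ⟨⟨_, hy, rfl⟩, e z, ⟨z, hz, rfl⟩, by simp⟩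
    · rintro ⟨⟨y', hy', ey⟩, _, ⟨z, hz, rfl⟩, ez⟩
      obtain rfl := e.injective ey
      exact ⟨hy', z, hz, e.injective (by simpa using ez)⟩

theorem Extremal.equiv [Finite G'] [Finite G] [Fact p.Prime] (e : G' ≃* G) (h : Extremal p G') :
    Extremal p G := by
  intro D hD
  rcases h _ (hD.comap p e) with hb | ⟨P, hP⟩
  · left
    rw [← Subgroup.map_comap_eq_self_of_surjective (f := e.toMonoidHom) e.surjective D, hb,
      Subgroup.map_bot]
  · have hs : Function.Surjective e.toMonoidHom := e.surjective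
    refine Or.inr ⟨P.mapSurjective hs, ?_⟩
    rw [Sylow.coe_mapSurjective hs P, hP, Subgroup.map_comap_eq_self_of_surjective hs]

theorem HasRadicals.quotient [Finite G] [Fact p.Prime] (Z : Subgroup G) [Z.Normal]
    (hZ : Z ≤ Subgroup.center G) (h : HasRadicals p G) : HasRadicals p (G ⧸ Z) := by
  intro D hD hne
  set π := QuotientGroup.mk' Z with hπ
  have hs : Function.Surjective π := QuotientGroup.mk'_surjective Z
  set K := D.comap π with hK
  obtain ⟨S⟩ : Nonempty (Sylow p K) := inferInstance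
  have hmap : ((S : Subgroup K).map K.subtype).map π = D := by
    set f : K →* D := (π.comp K.subtype).codRestrict D fun x => x.2
    have hf : Function.Surjective f := fun d => by
      obtain ⟨g, hg⟩ := hs d
      exact ⟨⟨g, by rw [hK, Subgroup.mem_comap, hg]; exact d.2⟩, Subtype.ext hg⟩
    have hS := (S.mapSurjective hf).is_maximal' (Q := ⊤) (hD.to_subgroup ⊤) le_top
    rw [Sylow.coe_mapSurjective] at hS
    ext d
    constructor
    · rintro ⟨_, ⟨s, -, rfl⟩, rfl⟩
      exact s.2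
    · intro hd
      obtain ⟨s, hs', e⟩ := (le_of_eq hS) (Subgroup.mem_top (⟨d, hd⟩ : D))
      exact ⟨_, ⟨s, hs', rfl⟩, congrArg Subtype.val e⟩
  set D' := (S : Subgroup K).map K.subtype with hD'
  have hne' : D' ≠ ⊥ := fun e => hne (by rw [← hmap, e, Subgroup.map_bot])
  -- the lift is the only one in its preimage
  have huniq : ∀ s ∈ K, (∃ k : ℕ, orderOf s = p ^ k) → s ∈ D' := by
    intro s hsK ⟨k, hk⟩
    obtain ⟨_, ⟨t, ht, rfl⟩, ets⟩ := (hmap.symm ▸ hsK : π s ∈ D'.map π)
    have hz : (t : G)⁻¹ * s ∈ Z := (QuotientGroup.eq).1 ets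
    have hzc := Subgroup.mem_center_iff.1 (hZ hz)
    have hpS : IsPGroup p (Subgroup.zpowers (⟨s, hsK⟩ : K)) :=
      IsPGroup.of_card (n := k) (by rw [Nat.card_zpowers, ← hk, Subgroup.orderOf_mk])
    have hnorm : Subgroup.zpowers (⟨s, hsK⟩ : K) ≤ Subgroup.normalizer ((S : Subgroup K) : Set K) := by
      have e : (⟨s, hsK⟩ : K) = t * (t⁻¹ * ⟨s, hsK⟩) := by group
      have hzK : t⁻¹ * ⟨s, hsK⟩ ∈ Subgroup.center K := Subgroup.mem_center_iff.2 fun g =>
        Subtype.ext (by simpa using hzc g)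
      rw [Subgroup.zpowers_le, e]
      refine Subgroup.mul_mem _ (Subgroup.le_normalizer ht) (Subgroup.mem_normalizer_iff.2 fun g => ?_)
      rw [← Subgroup.mem_center_iff.1 hzK g, mul_inv_cancel_right]
    have hsup : IsPGroup p ↥(Subgroup.zpowers (⟨s, hsK⟩ : K) ⊔ (S : Subgroup K)) :=
      hpS.to_sup_of_normal_right' S.isPGroup' hnorm
    have := (S.is_maximal' hsup le_sup_right).le (Subgroup.mem_sup_left (Subgroup.mem_zpowers _))
    exact ⟨_, this, rfl⟩
  obtain ⟨R, hR, hinv, hcen⟩ := h D' (S.isPGroup'.map _) hne'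
  refine ⟨R.map π, hR.map _, ?_, ?_⟩
  · intro gq hgq
    obtain ⟨g, rfl⟩ := hs gq
    have key : ∀ d, d ∈ D' ↔ g * d * g⁻¹ ∈ D' := by
      have hp' : ∀ d ∈ D', ∃ k : ℕ, orderOf d = p ^ k := fun d hd => by
        obtain ⟨k, hk⟩ := IsPGroup.iff_orderOf.1 (S.isPGroup'.map K.subtype) ⟨d, hd⟩
        exact ⟨k, by rw [← hk, Subgroup.orderOf_mk]⟩
      have hK' : ∀ d ∈ D', d ∈ K := fun d hd => by
        obtain ⟨t, -, rfl⟩ := hd
        exact t.2
      intro d
      have hconj : orderOf (g * d * g⁻¹) = orderOf d := (MulAut.conj g).orderOf_eq d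
      have hmk : π (g * d * g⁻¹) = π g * π d * (π g)⁻¹ := by simp
      constructor <;> intro hd
      · refine huniq _ (show π _ ∈ D from ?_) (by rw [hconj]; exact hp' d hd)
        rw [hmk]; exact (hgq _).1 (hK' d hd)
      · refine huniq _ (show π d ∈ D from (hgq _).2 ?_) (by rw [← hconj]; exact hp' _ hd)
        rw [← hmk]; exact hK' _ hd
    rintro _ ⟨r, hr, rfl⟩
    exact ⟨g * r * g⁻¹, hinv g key r hr, by simp⟩
  · intro xq hxq hxp
    obtain ⟨x0, rfl⟩ := hs xq
    -- the prime-to-p part of a lift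
    obtain ⟨j, hj⟩ : ∃ j : ℕ, j * p ^ (orderOf x0).factorization p ≡ 1 [MOD orderOf (π x0)] := by
      have hcop : (p ^ (orderOf x0).factorization p).Coprime (orderOf (π x0)) :=
        ((Nat.Prime.coprime_iff_not_dvd Fact.out).2 hxp).pow_left _
      refine ⟨(p ^ (orderOf x0).factorization p) ^ ((orderOf (π x0)).totient - 1), ?_⟩
      rw [← pow_succ, Nat.sub_add_cancel (Nat.totient_pos.2 (orderOf_pos _))]
      exact Nat.ModEq.pow_totient hcop
    set x := x0 ^ (j * p ^ (orderOf x0).factorization p) with hxdef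
    have hxπ : π x = π x0 := by
      rw [hxdef, map_pow, ← pow_mod_orderOf, hj, pow_mod_orderOf, pow_one]
    have hx' : ¬ p ∣ orderOf x := by
      intro hd
      have h1 : orderOf x ∣ orderOf x0 / p ^ (orderOf x0).factorization p := by
        refine orderOf_dvd_of_pow_eq_one ?_
        rw [hxdef, ← pow_mul, mul_assoc, Nat.mul_div_cancel' (Nat.ordProj_dvd _ _), mul_comm,
          pow_mul, pow_orderOf_eq_one, one_pow]
      exact Nat.not_dvd_ordCompl Fact.out (orderOf_pos x0).ne' (hd.trans h1)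
    rw [← hxπ] at hxq ⊢
    refine Subgroup.mem_center_iff.2 fun g => ?_
    obtain ⟨g, rfl⟩ := hs g
    have hxR : ∀ r ∈ R, x * r = r * x := by
      intro r hr
      have hz : (r * x)⁻¹ * (x * r) ∈ Z := (QuotientGroup.eq).1
        ((map_mul π r x).trans ((hxq _ ⟨r, hr, rfl⟩).symm.trans (map_mul π x r).symm))
      set z := (r * x)⁻¹ * (x * r) with hzdef
      have hzc := Subgroup.mem_center_iff.1 (hZ hz)
      have e1 : x * r * x⁻¹ = r * z := by
        have e2 : x * r = r * z * x := by rw [mul_assoc, ← hzc x, hzdef]; group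
        rw [e2, mul_inv_cancel_right]
      have e3 : ∀ n : ℕ, x ^ n * r * (x ^ n)⁻¹ = r * z ^ n := by
        intro n
        induction n with
        | zero => simp
        | succ n ih =>
          have e4 : x ^ (n + 1) * r * (x ^ (n + 1))⁻¹ = x * (x ^ n * r * (x ^ n)⁻¹) * x⁻¹ := by group
          have e5 : x * z ^ n * x⁻¹ = z ^ n := by
            rw [Subgroup.mem_center_iff.1 (Subgroup.pow_mem _ (hZ hz) n) x, mul_inv_cancel_right]
          rw [e4, ih]
          calc x * (r * z ^ n) * x⁻¹ = (x * r * x⁻¹) * (x * z ^ n * x⁻¹) := by group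
            _ = _ := by rw [e1, e5, mul_assoc, pow_succ']
      have h1 : z ^ orderOf x = 1 := by simpa [pow_orderOf_eq_one] using (e3 (orderOf x)).symm
      obtain ⟨k, hk⟩ := IsPGroup.iff_orderOf.1 hR ⟨r, hr⟩
      rw [Subgroup.orderOf_mk] at hk
      have h2 : z ^ p ^ k = 1 := by
        have hcz : Commute r z := hzc r
        have := congrArg (· ^ p ^ k) e1
        simp only [conj_pow, hcz.mul_pow, ← hk, pow_orderOf_eq_one,
          mul_one, mul_inv_cancel, one_mul] at this
        rw [← hk]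
        exact this.symm
      have h3 : z = 1 := by
        rw [← orderOf_eq_one_iff, ← Nat.dvd_one,
          ← (((Nat.Prime.coprime_iff_not_dvd Fact.out).2 hx').pow_left k)]
        exact Nat.dvd_gcd (orderOf_dvd_of_pow_eq_one h2) (orderOf_dvd_of_pow_eq_one h1)
      rw [h3, mul_one, mul_inv_eq_iff_eq_mul] at e1
      exact e1
    rw [← map_mul, ← map_mul, Subgroup.mem_center_iff.1 (hcen x hxR hx') g]

/-- The conclusion for blocks. -/
theorem blockDefect_of_extremal [Finite G] [Fact p.Prime] (h : Extremal p G) {M : Ideal AlgInt}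
    (hM : IsPModular p M) {B : Set (IrrCharacter G)} (hB : IsPBlock M B) :
    blockDefect p B = 0 ∨ blockDefect p B = (Nat.card G).factorization p := by
  have := hM.2.1
  have hpM := hM.2.2
  obtain ⟨D, hD⟩ := Blocks.exists_defectGroup (p := p) hB
  have hDp := Blocks.IsDefectGroup.isPGroup hD
  have hc := Blocks.card_defectGroup hpM hB hD
  have hp1 : 1 < p := (Fact.out : p.Prime).one_lt
  have hshape : Shaped p D := by
    refine ⟨hDp, fun R hR hRn hinv => ?_, fun P hP => ?_⟩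
    · have hle : R ≤ Subgroup.normalizer (D : Set G) := fun r hr =>
        Subgroup.mem_normalizer_iff.2 (hRn r hr)
      have : (R.subgroupOf (Subgroup.normalizer (D : Set G))).Normal := ⟨fun r hr g =>
        hinv g (Subgroup.mem_normalizer_iff.1 g.2) r hr⟩
      have := Blocks.pGroup_le_of_normal_normalizer hpM hB hD
        (hR.of_equiv (Subgroup.subgroupOfEquivOfLe hle).symm)
      rwa [Subgroup.map_subgroupOf_eq_of_le hle] at this
    · obtain ⟨x, hx, hxC, hI⟩ := Cfsg.Agent.BlocksX.green hpM hB hD P hP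
      exact ⟨x, hx, fun d hd => (Subgroup.mem_centralizer_singleton_iff.1 (hxC.1 hd)).symm, hI⟩
  rcases h D hshape with h0 | ⟨P, hP⟩
  · left
    rw [h0, Subgroup.card_bot] at hc
    exact Nat.pow_right_injective hp1 (hc.symm.trans (pow_zero p).symm)
  · right
    rw [← hP, P.card_eq_multiplicity] at hc
    exact Nat.pow_right_injective hp1 hc.symm

end Cfsg.Agent.DefectLie
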