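import Cfsg.Agent.Lib.DefectLie.RootData
import Cfsg.Agent.Lib.Chev.UnipotentCount
import Cfsg.Agent.Lib.Chev.Simple
import Cfsg.Agent.Lib.Chev.TwistE6Group
import Cfsg.Agent.Lib.Chev.TwistD4Group
import Cfsg.Agent.Lib.Chev.TwistTorusE6
import Cfsg.Agent.Lib.Chev.TwistTorusD4
import Cfsg.Agent.Lib.RootBN.TwistData
import Cfsg.Agent.Lib.Twisted.F4.Structure
import Cfsg.Agent.Lib.Twisted.Ree.Simple
import Cfsg.Agent.Lib.Sz.Partition
import Cfsg.Agent.Lib.Sz.Lie
import Cfsg.Agent.Lib.LieOrder.Bounds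
import Cfsg.Agent.S1066
import Cfsg.Agent.S1067
import Cfsg.Agent.S1068
import Cfsg.Agent.S1086
import Cfsg.Agent.S1088
import Cfsg.Agent.S1090
import Cfsg.Prelude.Def_LieTypeChar

/-!
The exceptional, twisted, Suzuki and Ree families: shaped p-subgroups are trivial or Sylow.
-/

set_option autoImplicit false
set_option linter.unusedSectionVars false

namespace Cfsg.Agent.DefectLie

open Cfsg.Lie Cfsg.Agent.Chev Cfsg.Agent.Chev.BNSetup

variable (p : ℕ) [Fact p.Prime]

theorem not_dvd_index_of_formula {N : Type*} [Group N] {U X : Subgroup N} (hle : U ≤ X)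
    {q k R d : ℕ} (hq : 0 < q) (hcard : Nat.card U = q ^ k)
    (hform : d * Nat.card X = q ^ k * R) (hR : ¬ p ∣ R) : ¬ p ∣ (U.subgroupOf X).index := by
  intro hdvd
  have h1 := (U.subgroupOf X).index_mul_card
  rw [Nat.card_congr (Subgroup.subgroupOfEquivOfLe hle).toEquiv, hcard] at h1
  rw [← h1, ← mul_assoc, mul_comm _ (q ^ k)] at hform
  exact hR (Nat.eq_of_mul_eq_mul_left (Nat.pow_pos hq) hform ▸ dvd_mul_of_dvd_right hdvd d)

theorem isPGroup_of_posPow {M : Type*} [Group M] {U : Subgroup M} {q k : ℕ}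
    (hq : LieOrder.PosPow p q) (hcard : Nat.card U = q ^ k) : IsPGroup p U := by
  obtain ⟨e, -, rfl⟩ := hq
  exact IsPGroup.of_card (n := e * k) (by rw [hcard, pow_mul])

section Chevalley

variable {F : Type*} [Field F] [Fintype F] [CharP F p]

theorem extremal_chev {D : ChevalleyDatum}
    (hD : D ∈ [chevG2, chevB2, chevD4, chevF4, chevE6, chevE7, chevE8]) :
    Extremal p ↥(D.group F) := by
  obtain ⟨P, _, n, hn, hB, hS, hS', -, hU, -, htriv⟩ := exists_split (F := F) p hD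
  obtain ⟨tabs, simps, w, hf, hw⟩ := exists_facts_longest hD
  obtain ⟨ord, hord⟩ := connected_of_mem hD
  have hG := good_of_mem hD
  refine extremal_of_split P hU hn htriv (irreducible_of_rep (axioms (F := F) hG hf) P
    (fun g hg => ?_) hS hS' fun q a b ha hb => ?_)
  · rw [hB, Subgroup.mem_subgroupOf] at hg
    rwa [data_B hG hf] at *
  · obtain ⟨i, j, ⟨h1, h2, h3⟩ | ⟨h1, h2, h3⟩⟩ := exists_crossing hord q ha hb
    · exact ⟨i, j, h1, h2, fun e => h3 (congrArg
        (fun σ : Equiv.Perm (Fin D.nroots) => (σ ⟨_, hG.simple_lt i.2⟩).val) e)⟩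
    · exact ⟨i, j, h1, h2, fun e => h3 (congrArg
        (fun σ : Equiv.Perm (Fin D.nroots) => (σ ⟨_, hG.simple_lt j.2⟩).val) e)⟩

end Chevalley

section Twisted

variable {K : Type*} [Field K] [Fintype K] [CharP K p] {q : ℕ}

theorem posPow_of_card {r : ℕ} (hq : IsPrimePow q) (hr : r ≠ 0) (hK : Fintype.card K = q ^ r) :
    LieOrder.PosPow p q := by
  obtain ⟨n, -, hn⟩ := FiniteField.card K p
  exact LieOrder.posPow_of_pow_eq Fact.out hr (hK ▸ hn) hq.one_lt

/-- The twisted diagram is connected. -/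
def OrbConn (O : OrbTab) (no nj : ℕ) [NeZero no] [NeZero nj] : Prop :=
  ∀ q : Fin nj → Bool, ∀ a b, q a = true → q b = false →
    ∃ i j, q i = true ∧ q j = false ∧
      ∃ o, O.reflF no nj i (O.reflF no nj j o) ≠ O.reflF no nj j (O.reflF no nj i o)

instance decidableOrbConn (O : OrbTab) (no nj : ℕ) [NeZero no] [NeZero nj] :
    Decidable (OrbConn O no nj) := inferInstanceAs (Decidable (∀ _, _))

theorem orbConn_E6 : OrbConn orbE6 48 4 := by decide +kernel

theorem orbConn_D4 : OrbConn orbD4 12 2 := by decide +kernel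

theorem rootConn_twist {D : ChevalleyDatum} (hG : Good D) {G : GraphTab} {O : OrbTab} {no nj : ℕ}
    [NeZero no] [NeZero nj] {tabs simps : List ℕ} (hO : O.OK no nj D G tabs simps) (φ : K ≃+* K)
    (hconn : OrbConn O no nj) : RootConn (twist hG hO φ).data := by
  classical
  intro q a b ha hb
  obtain ⟨i, j, hi, hj, o, ho⟩ :=
    hconn (fun i => decide (q i)) a b (decide_eq_true ha) (decide_eq_false hb)
  exact ⟨i, j, of_decide_eq_true hi, of_decide_eq_false hj, fun e =>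
    ho (congrArg (fun σ : Equiv.Perm (Fin no) => σ o) e)⟩

theorem extremal_twistedE6 (hq : IsPrimePow q) (hK : Fintype.card K = q ^ 2) :
    Extremal p ↥(twistedE6 K q) := by
  obtain ⟨φ, -, hGt, hinv, -⟩ := exists_frob2 hq hK
  have hT := twist_axioms E6.good orbE6_ok φ facts_chevE6 negTri_chevE6 graphE6_cols
  have hP := posPow_of_card p hq two_ne_zero hK
  have hUeq : (tw2E6 φ).data.U = chevE6.posUnipotent K ⊓ twistedE6 K q := by
    rw [← hGt, ← data_U E6.good facts_chevE6]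
    exact (RootBN.Twist.inf_Gt_U hT).symm
  have hcard : Nat.card (tw2E6 φ).data.U = q ^ 36 := hUeq ▸ Cfsg.Agent.S1086.result hq hK
  have hle : (tw2E6 φ).data.U ≤ twistedE6 K q := hUeq ▸ inf_le_right
  have h66 := Cfsg.Agent.S1066.result (K := K) hq hK
  simp only [mul_assoc] at h66
  have hgrp : (tw2E6 φ).data.grp = twistedE6 K q := hGt
  have hall : ∀ k < chevE6.rank, ∃ j, k ∈ orbE6.Jl 4 j := by decide +kernel
  have hcore : ((tw2E6 φ).data.B.subgroupOf (twistedE6 K q)).normalCore = ⊥ := by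
    have hB : (tw2E6 φ).data.B = chevE6.borelSubgroup K ⊓ (tw2E6 φ).Gt := by
      rw [← data_B E6.good facts_chevE6]
      exact (RootBN.Twist.inf_Gt_B hT).symm
    rw [hB, ← hGt]
    exact normalCore_eq_bot E6.good orbE6_ok φ facts_chevE6 negTri_chevE6 graphE6_cols hall
  refine extremal_of_data (RootBN.Twist.data_axioms hT) hgrp hcore p
    (isPGroup_of_posPow p hP hcard) (not_dvd_index_of_formula p hle hq.pos hcard h66 ?_)
    (rootConn_twist E6.good orbE6_ok φ orbConn_E6)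
  have hs' : ∀ j, j ≠ 0 → ¬ p ∣ q ^ j - 1 := fun j => LieOrder.not_dvd_pow_sub_one Fact.out hP
  have ha : ∀ j, j ≠ 0 → ¬ p ∣ q ^ j + 1 := fun j => LieOrder.not_dvd_pow_add_one Fact.out hP
  have hmul : ∀ {a b : ℕ}, ¬ p ∣ a → ¬ p ∣ b → ¬ p ∣ a * b := fun ha hb hh =>
    ((Fact.out : p.Prime).dvd_mul.1 hh).elim ha hb
  repeat' (first | apply hmul | apply hs' | apply ha | omega)

theorem extremal_twistedD4 (hq : IsPrimePow q) (hK : Fintype.card K = q ^ 3) :
    Extremal p ↥(twistedD4 K q) := by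
  obtain ⟨φ, -, hGt, hcube, -⟩ := exists_frob3 hq hK
  have hT := twist_axioms D4.good orbD4_ok φ facts_chevD4 negTri_chevD4 graphD4_cols
  have hP := posPow_of_card p hq three_ne_zero hK
  have hUeq : (tw3D4 φ).data.U = chevD4.posUnipotent K ⊓ twistedD4 K q := by
    rw [← hGt, ← data_U D4.good facts_chevD4]
    exact (RootBN.Twist.inf_Gt_U hT).symm
  have hcard : Nat.card (tw3D4 φ).data.U = q ^ 12 := hUeq ▸ Cfsg.Agent.S1088.result hq hK
  have hle : (tw3D4 φ).data.U ≤ twistedD4 K q := hUeq ▸ inf_le_right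
  have h67 := Cfsg.Agent.S1067.result (K := K) hq hK
  simp only [mul_assoc] at h67
  have hgrp : (tw3D4 φ).data.grp = twistedD4 K q := hGt
  have hall : ∀ k < chevD4.rank, ∃ j, k ∈ orbD4.Jl 2 j := by decide +kernel
  have hcore : ((tw3D4 φ).data.B.subgroupOf (twistedD4 K q)).normalCore = ⊥ := by
    have hB : (tw3D4 φ).data.B = chevD4.borelSubgroup K ⊓ (tw3D4 φ).Gt := by
      rw [← data_B D4.good facts_chevD4]
      exact (RootBN.Twist.inf_Gt_B hT).symm
    rw [hB, ← hGt]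
    exact normalCore_eq_bot D4.good orbD4_ok φ facts_chevD4 negTri_chevD4 graphD4_cols hall
  refine extremal_of_data (RootBN.Twist.data_axioms hT) hgrp hcore p
    (isPGroup_of_posPow p hP hcard)
    (not_dvd_index_of_formula p hle hq.pos hcard ((one_mul _).trans h67) ?_)
    (rootConn_twist D4.good orbD4_ok φ orbConn_D4)
  have hs' : ∀ j, j ≠ 0 → ¬ p ∣ q ^ j - 1 := fun j => LieOrder.not_dvd_pow_sub_one Fact.out hP
  have hmul : ∀ {a b : ℕ}, ¬ p ∣ a → ¬ p ∣ b → ¬ p ∣ a * b := fun ha hb hh =>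
    ((Fact.out : p.Prime).dvd_mul.1 hh).elim ha hb
  refine hmul (hs' _ (by omega)) (hmul (hs' _ (by omega)) ?_)
  intro hh
  exact (Fact.out : p.Prime).not_dvd_one ((Nat.dvd_add_right (dvd_add
    (dvd_trans hP.dvd (dvd_pow_self q (by omega)))
    (dvd_trans hP.dvd (dvd_pow_self q (by omega))))).1 hh)

end Twisted

section F4

open Cfsg.Agent.Twisted.F4

theorem extremal_twistedF4 {K : Type*} [Field K] [Fintype K] [Fact (Nat.Prime 2)] {m : ℕ}
    (hK : Fintype.card K = 2 ^ (2 * m + 1)) :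
    Extremal 2 ↥(twistedF4 K (2 ^ m)) := by
  have := charP_two hK
  have hP : LieOrder.PosPow 2 (2 ^ (2 * m + 1)) := ⟨_, by omega, rfl⟩
  have hUeq : (gl hK).U = chevF4.posUnipotent K ⊓ twistedF4 K (2 ^ m) := by
    rw [gl, RootBN.Data.image_U, U_inf_twisted hK]
  have hcard : Nat.card (gl hK).U = (2 ^ (2 * m + 1)) ^ 12 := hUeq ▸ Cfsg.Agent.S1090.result hK
  have hle : (gl hK).U ≤ twistedF4 K (2 ^ m) := hUeq ▸ inf_le_right
  have h68 := Cfsg.Agent.S1068.result (K := K) hK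
  simp only [mul_assoc] at h68
  have hnc : ∀ i i' : Fin 2, i ≠ i' →
      ∃ o, reflTab i (reflTab i' o) ≠ reflTab i' (reflTab i o) := by decide +kernel
  have hcore : ((gl hK).B.subgroupOf (twistedF4 K (2 ^ m))).normalCore = ⊥ := by
    rw [gl_B hK]
    exact Cfsg.Agent.Twisted.F4.normalCore_eq_bot hK
  refine extremal_of_data (gl_axioms hK) (gl_grp hK) hcore 2
    (isPGroup_of_posPow 2 hP hcard)
    (not_dvd_index_of_formula 2 hle (by positivity) hcard ((one_mul _).trans h68) ?_)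
    fun q a b ha hb => ?_
  · have hmul : ∀ {a b : ℕ}, ¬ 2 ∣ a → ¬ 2 ∣ b → ¬ 2 ∣ a * b := fun ha hb hh =>
      (Nat.prime_two.dvd_mul.1 hh).elim ha hb
    exact hmul (LieOrder.not_dvd_sub_one Nat.prime_two hP)
      (hmul (LieOrder.not_dvd_pow_add_one Nat.prime_two hP (by omega))
        (hmul (LieOrder.not_dvd_pow_sub_one Nat.prime_two hP (by omega))
          (LieOrder.not_dvd_pow_add_one Nat.prime_two hP (by omega))))
  · obtain ⟨o, ho⟩ := hnc a b fun e => hb (e ▸ ha)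
    exact ⟨a, b, ha, hb, fun e => ho (congrArg (fun σ : Equiv.Perm (Fin 16) => σ o) e)⟩

end F4

section Suzuki

open Cfsg.Agent.SZ

theorem extremal_suzuki {F : Type*} [Field F] [Fintype F] [Fact (Nat.Prime 2)] {m : ℕ}
    (hm : 1 ≤ m) (hF : Fintype.card F = 2 ^ (2 * m + 1)) :
    Extremal 2 ↥(Cfsg.Lie.Sz F (2 ^ (m + 1))) := by
  have : Finite (Cfsg.Sz F m) := inferInstance
  refine Extremal.equiv 2 (szEquiv hm hF) (extremal_of_ti 2 (uSylow hm hF) fun x => ?_)
  rw [coe_uSylow]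
  by_cases hx : x ∈ Subgroup.normalizer (uGrp hF : Set (Cfsg.Sz F m))
  · exact Or.inl fun u hu => (Subgroup.mem_normalizer_iff''.1 hx u).1 hu
  · refine Or.inr fun u hu hxu => by_contra fun hne => hx ?_
    have := isTI_uGrp hm hF x⁻¹ u hu hne (by simpa using hxu)
    simpa using this

end Suzuki

section Ree

open Cfsg.Agent.Twisted.Ree

theorem extremal_ree {K : Type*} [Field K] [Fintype K] [Fact (Nat.Prime 3)] {m : ℕ}
    (hK : Fintype.card K = 3 ^ (2 * m + 1)) :
    Extremal 3 ↥(twistedG2 K (3 ^ m)) := by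
  have := charP_three hK
  set U : Subgroup ↥(G1 K m) := (U1 K m).subgroupOf (G1 K m) with hUdef
  have hP : LieOrder.PosPow 3 (3 ^ (2 * m + 1)) := ⟨_, by omega, rfl⟩
  have hidx : ¬ 3 ∣ U.index := by
    refine not_dvd_index_of_formula 3 inf_le_right (q := 3 ^ (2 * m + 1)) (k := 3) (by positivity)
      (card_U1 hK) (d := 1) ((one_mul _).trans ((card_G1 hK).trans (mul_assoc _ _ _))) ?_
    exact fun hh => ((Nat.Prime.dvd_mul Fact.out).1 hh).elim
      (LieOrder.not_dvd_sub_one Fact.out hP)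
      (LieOrder.not_dvd_pow_add_one Fact.out hP (by omega))
  have hUp : IsPGroup 3 U :=
    (isPGroup_U1 hK).of_equiv (Subgroup.subgroupOfEquivOfLe inf_le_right).symm
  refine extremal_of_ti 3 (hUp.toSylow hidx) fun x => ?_
  rw [IsPGroup.toSylow_coe]
  by_cases hB : (x : GL chevG2.Idx K) ∈ chevG2.borelSubgroup K
  · refine Or.inl fun u hu => Subgroup.mem_subgroupOf.2 ?_
    have := conj_U1_by_B1 hK (b := (x : GL chevG2.Idx K)⁻¹)
      ⟨Subgroup.inv_mem _ hB, Subgroup.inv_mem _ x.2⟩ (Subgroup.mem_subgroupOf.1 hu)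
    simpa using this
  · refine Or.inr fun a ha hxa => Subtype.ext ?_
    rw [Subgroup.mem_subgroupOf] at ha hxa
    obtain ⟨u, hu, k, hk, w, hw, e⟩ := exists_of_not_mem_B1 hK x.2 hB
    simp only [Subgroup.coe_mul, Subgroup.coe_inv, e] at hxa
    set a' := k⁻¹ * (u⁻¹ * (a : GL chevG2.Idx K) * u) * k with ha'
    have h1 : a' ∈ U1 K m := by
      have := conj_U1_by_H1 hK (Subgroup.inv_mem _ hk)
        (Subgroup.mul_mem _ (Subgroup.mul_mem _ (Subgroup.inv_mem _ hu) ha) hu)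
      simpa [ha'] using this
    have h2 : (n0 K)⁻¹ * a' * n0 K ∈ U1 K m := by
      have := Subgroup.mul_mem _ (Subgroup.mul_mem _ hw hxa) (Subgroup.inv_mem _ hw)
      simpa [ha', mul_assoc] using this
    have h3 := (cell_unique h1.1 (Subgroup.one_mem _) (Subgroup.one_mem _) (Subgroup.one_mem _)
      (Subgroup.one_mem _) h2.1 (by simp [mul_assoc])).1
    rw [ha'] at h3
    calc (a : GL chevG2.Idx K) = u * (k * (k⁻¹ * (u⁻¹ * a * u) * k) * k⁻¹) * u⁻¹ := by group
      _ = _ := by rw [h3]; simp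

end Ree

variable {G : Type*} [Group G] [Finite G]

theorem extremal_exceptional (h : Cfsg.IsExceptionalChevChar p G) : Extremal p G := by
  obtain ⟨F, _, _, _, h⟩ := h
  rcases h with ⟨-, ⟨e⟩⟩ | ⟨⟨e⟩⟩ | ⟨⟨e⟩⟩ | ⟨⟨e⟩⟩ | ⟨⟨e⟩⟩ <;>
    exact Extremal.equiv p e.symm (extremal_chev (F := F) p (by simp))

theorem extremal_twisted (h : Cfsg.IsTwistedE6D4Char p G) : Extremal p G := by
  obtain ⟨K, _, _, _, q, hq, ⟨hK, ⟨e⟩⟩ | ⟨hK, ⟨e⟩⟩⟩ := h
  · exact Extremal.equiv p e.symm (extremal_twistedE6 p hq hK)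
  · exact Extremal.equiv p e.symm (extremal_twistedD4 p hq hK)

end Cfsg.Agent.DefectLie
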