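import Cfsg.Agent.Lib.DefectLie.Criterion
import Cfsg.Agent.Lib.SqDerived.Basic
import Cfsg.Agent.Lib.ClassicalSimple.Linear

/-!
Radical subgroups of linear groups attached to an invariant flag: the elements which lower a
flag `W ≤ P` of a faithful module; an element of order prime to p commuting with all of them is
central.
-/

set_option autoImplicit false
set_option linter.unusedSectionVars false

namespace Cfsg.Agent.DefectLie

section Group

variable {F V : Type*} [Field F] [AddCommGroup V] [Module F V] {M : Type*} [Group M]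
  (f : M →* Module.End F V)

theorem apply_inv_apply (g : M) (v : V) : f g (f g⁻¹ v) = v := by
  rw [← Module.End.mul_apply, ← map_mul, mul_inv_cancel, map_one, Module.End.one_apply]

theorem inv_apply_apply (g : M) (v : V) : f g⁻¹ (f g v) = v := by
  rw [← Module.End.mul_apply, ← map_mul, inv_mul_cancel, map_one, Module.End.one_apply]

/-- The elements lowering the flag `W ≤ P` and fixing `W`. -/
def flagGroup (W P : Submodule F V) (hWP : W ≤ P) : Subgroup M where
  carrier := {g | (∀ v, f g v - v ∈ P) ∧ (∀ v ∈ P, f g v - v ∈ W) ∧ ∀ v ∈ W, f g v = v}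
  one_mem' := by simp
  mul_mem' := by
    rintro g h ⟨g1, g2, g3⟩ ⟨h1, h2, h3⟩
    have e : ∀ v, f (g * h) v - v = (f g (f h v) - f h v) + (f h v - v) := fun v => by
      rw [map_mul, Module.End.mul_apply, sub_add_sub_cancel]
    refine ⟨fun v => e v ▸ add_mem (g1 _) (h1 v), fun v hv => ?_, fun v hv => ?_⟩
    · rw [e]
      refine add_mem (g2 _ ?_) (h2 v hv)
      have := add_mem hv (hWP (h2 v hv))
      rwa [add_sub_cancel] at this
    · rw [map_mul, Module.End.mul_apply, h3 v hv, g3 v hv]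
  inv_mem' := by
    rintro g ⟨g1, g2, g3⟩
    have e : ∀ v, f g⁻¹ v - v = -(f g (f g⁻¹ v) - f g⁻¹ v) := fun v => by
      rw [apply_inv_apply, neg_sub]
    refine ⟨fun v => e v ▸ neg_mem (g1 _), fun v hv => e v ▸ neg_mem (g2 _ ?_), fun v hv => ?_⟩
    · have := add_mem hv (show f g⁻¹ v - v ∈ P from e v ▸ neg_mem (g1 _))
      rwa [add_sub_cancel] at this
    · conv_lhs => rw [← g3 v hv, inv_apply_apply]

variable {f}

theorem mem_flagGroup {W P : Submodule F V} {hWP : W ≤ P} {g : M} :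
    g ∈ flagGroup f W P hWP ↔
      (∀ v, f g v - v ∈ P) ∧ (∀ v ∈ P, f g v - v ∈ W) ∧ ∀ v ∈ W, f g v = v := Iff.rfl

theorem flagGroup_conj {W P : Submodule F V} (hWP : W ≤ P) {g : M}
    (hW : ∀ v ∈ W, f g v ∈ W) (hW' : ∀ v ∈ W, f g⁻¹ v ∈ W)
    (hP : ∀ v ∈ P, f g v ∈ P) (hP' : ∀ v ∈ P, f g⁻¹ v ∈ P) {r : M}
    (hr : r ∈ flagGroup f W P hWP) : g * r * g⁻¹ ∈ flagGroup f W P hWP := by
  obtain ⟨r1, r2, r3⟩ := hr
  have e : ∀ v, f (g * r * g⁻¹) v - v = f g (f r (f g⁻¹ v) - f g⁻¹ v) := fun v => by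
    rw [map_sub, apply_inv_apply, map_mul, map_mul, Module.End.mul_apply, Module.End.mul_apply]
  refine ⟨fun v => e v ▸ hP _ (r1 _), fun v hv => e v ▸ hW _ (r2 _ (hP' v hv)), fun v hv => ?_⟩
  rw [← sub_eq_zero, e, r3 _ (hW' v hv), sub_self, map_zero]

variable (p : ℕ) [Fact p.Prime] [CharP F p]

/-- A map which is a scalar up to a nilpotent part of class three has a scalar power. -/
theorem pow_eq_of_flag [Nontrivial V] {W P : Submodule F V} {X : Module.End F V} {c : F}
    (h1 : ∀ v, X v - c • v ∈ P) (h2 : ∀ v ∈ P, X v - c • v ∈ W) (h3 : ∀ v ∈ W, X v = c • v) :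
    X ^ p ^ 2 = algebraMap F (Module.End F V) (c ^ p ^ 2) := by
  have : CharP (Module.End F V) p :=
    charP_of_injective_algebraMap' F p
  have h0 : (X - algebraMap F (Module.End F V) c) ^ 3 = 0 := LinearMap.ext fun v => by
    set Y := X - algebraMap F (Module.End F V) c with hY
    have hv : ∀ w, Y w = X w - c • w := fun w => by
      rw [hY, LinearMap.sub_apply, Module.algebraMap_end_apply]
    have : Y (Y (Y v)) = 0 := by
      rw [hv (Y (Y v))]
      exact sub_eq_zero.2 (h3 _ (by rw [hv (Y v)]; exact h2 _ (hv v ▸ h1 v)))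
    simpa [pow_succ, Module.End.mul_apply] using this
  have hle : 3 ≤ p ^ 2 := by
    have := (Fact.out : p.Prime).two_le
    calc 3 ≤ 2 ^ 2 := by norm_num
      _ ≤ _ := Nat.pow_le_pow_left this 2
  have := sub_pow_char_pow_of_commute (p := p) (n := 2)
    (Algebra.commute_algebraMap_right c X)
  rw [← Nat.sub_add_cancel hle, pow_add, h0, mul_zero, Nat.sub_add_cancel hle] at this
  rw [map_pow]
  exact sub_eq_zero.1 this.symm

theorem isPGroup_flagGroup [Nontrivial V] (hf : Function.Injective f) {W P : Submodule F V}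
    (hWP : W ≤ P) : IsPGroup p (flagGroup f W P hWP) := by
  rintro ⟨g, g1, g2, g3⟩
  refine ⟨2, Subtype.ext (hf ?_)⟩
  have := pow_eq_of_flag p (X := f g) (c := 1) (fun v => by simpa using g1 v)
    (fun v hv => by simpa using g2 v hv) (fun v hv => by simpa using g3 v hv)
  simpa [map_pow] using this

theorem mem_center_of_flag [Finite M] [Nontrivial V] (hf : Function.Injective f)
    {W P : Submodule F V} {x : M} (hx : ¬ p ∣ orderOf x) {c : F}
    (h1 : ∀ v, f x v - c • v ∈ P) (h2 : ∀ v ∈ P, f x v - c • v ∈ W)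
    (h3 : ∀ v ∈ W, f x v = c • v) : x ∈ Subgroup.center M := by
  have hpow := pow_eq_of_flag p h1 h2 h3
  have hc : x ^ p ^ 2 ∈ Subgroup.center M := Subgroup.mem_center_iff.2 fun g => hf (by
    rw [map_mul, map_mul, map_pow, hpow]
    exact (Algebra.commutes (c ^ p ^ 2) (f g)).symm)
  have hcop : (p ^ 2).Coprime (orderOf x) :=
    ((Nat.Prime.coprime_iff_not_dvd Fact.out).2 hx).pow_left _
  have hx' : x ∈ Subgroup.zpowers (x ^ p ^ 2) := by
    obtain ⟨m, hm⟩ := exists_pow_eq_self_of_coprime hcop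
    exact ⟨m, by simpa using hm⟩
  exact (Subgroup.zpowers_le.2 hc) hx'

/-- The conclusion of `HasRadicals` at one subgroup from an invariant flag. -/
theorem exists_radical_of_flag [Finite M] [Nontrivial V] (hf : Function.Injective f)
    {D : Subgroup M} (W P : Submodule F V) (hWP : W ≤ P)
    (hinv : ∀ g : M, (∀ d, d ∈ D ↔ g * d * g⁻¹ ∈ D) →
      (∀ v ∈ W, f g v ∈ W) ∧ ∀ v ∈ P, f g v ∈ P)
    (hscal : ∀ x : M, (∀ r ∈ flagGroup f W P hWP, x * r = r * x) → ∃ c : F,
      (∀ v, f x v - c • v ∈ P) ∧ (∀ v ∈ P, f x v - c • v ∈ W) ∧ ∀ v ∈ W, f x v = c • v) :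
    ∃ R : Subgroup M, IsPGroup p R ∧
      (∀ g : M, (∀ d, d ∈ D ↔ g * d * g⁻¹ ∈ D) → ∀ r ∈ R, g * r * g⁻¹ ∈ R) ∧
      ∀ x : M, (∀ r ∈ R, x * r = r * x) → ¬ p ∣ orderOf x → x ∈ Subgroup.center M := by
  refine ⟨flagGroup f W P hWP, isPGroup_flagGroup p hf hWP, fun g hg r hr => ?_,
    fun x hxc hx => ?_⟩
  · have hg' : ∀ d, d ∈ D ↔ g⁻¹ * d * g⁻¹⁻¹ ∈ D := fun d => by
      conv_rhs => rw [hg (g⁻¹ * d * g⁻¹⁻¹)]
      simp [mul_assoc]
    exact flagGroup_conj hWP (hinv g hg).1 (hinv g⁻¹ hg').1 (hinv g hg).2 (hinv g⁻¹ hg').2 hr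
  · obtain ⟨c, h1, h2, h3⟩ := hscal x hxc
    exact mem_center_of_flag p hf hx h1 h2 h3

variable (f) in
/-- The fixed space of a subgroup. -/
def fixedSpace (D : Subgroup M) : Submodule F V where
  carrier := {v | ∀ d ∈ D, f d v = v}
  add_mem' := fun {a b} ha hb d hd => by rw [map_add, ha d hd, hb d hd]
  zero_mem' := fun d _ => map_zero _
  smul_mem' := fun c a ha d hd => by rw [map_smul, ha d hd]

theorem mem_fixedSpace {D : Subgroup M} {v : V} : v ∈ fixedSpace f D ↔ ∀ d ∈ D, f d v = v :=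
  Iff.rfl

theorem apply_mem_fixedSpace {D : Subgroup M} {g : M} (hg : ∀ d, d ∈ D ↔ g * d * g⁻¹ ∈ D)
    {v : V} (hv : v ∈ fixedSpace f D) : f g v ∈ fixedSpace f D := by
  intro d hd
  have := hv (g⁻¹ * d * g) ((hg _).2 (by simpa [mul_assoc] using hd))
  conv_rhs => rw [← this]
  rw [map_mul, map_mul, Module.End.mul_apply, Module.End.mul_apply, apply_inv_apply]

/-- A p-group fixes a nonzero vector in an invariant nonzero additive subgroup. -/
theorem exists_fixed [Finite V] {D : Subgroup M} (hD : IsPGroup p D) (S : AddSubgroup V)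
    (hS : S ≠ ⊥) (hinv : ∀ d ∈ D, ∀ v ∈ S, f d v ∈ S) :
    ∃ v ∈ S, v ≠ 0 ∧ v ∈ fixedSpace f D := by
  let _ : MulAction M V :=
    { smul := fun g v => f g v
      one_smul := fun v => by show f 1 v = v; rw [map_one, Module.End.one_apply]
      mul_smul := fun g h v => by show f (g * h) v = f g (f h v); rw [map_mul, Module.End.mul_apply] }
  obtain ⟨s, hs, hs0⟩ : ∃ s ∈ S, s ≠ (0 : V) := by
    by_contra hc
    push Not at hc
    exact hS ((AddSubgroup.eq_bot_iff_forall S).2 hc)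
  have hdvd : p ∣ Nat.card (S : Set V) := by
    have h0 : p • (⟨s, hs⟩ : S) = 0 := Subtype.ext (by
      show p • s = 0
      rw [← Nat.cast_smul_eq_nsmul F, CharP.cast_eq_zero, zero_smul])
    have ho : addOrderOf (⟨s, hs⟩ : S) = p :=
      addOrderOf_eq_prime h0 fun h => hs0 (congrArg Subtype.val h)
    have := addOrderOf_dvd_natCard (⟨s, hs⟩ : S)
    rwa [ho] at this
  obtain ⟨b, hb, hne, hfix⟩ := SqDerived.exists_fixed_ne hD (S : Set V) (Set.toFinite _) hinv hdvd
    (a := (0 : V)) S.zero_mem fun g _ => map_zero _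
  exact ⟨b, hb, hne, hfix⟩

theorem fixedSpace_ne_top (hf : Function.Injective f) {D : Subgroup M} (hD : D ≠ ⊥) :
    fixedSpace f D ≠ ⊤ := by
  intro e
  refine hD ((Subgroup.eq_bot_iff_forall D).2 fun d hd => hf (LinearMap.ext fun v => ?_))
  have : v ∈ fixedSpace f D := e ▸ Submodule.mem_top
  rw [map_one, Module.End.one_apply]
  exact this d hd

/-- The linear groups containing all transvections. -/
theorem hasRadicals_linear [Finite M] [Finite V] [Nontrivial V] (hf : Function.Injective f)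
    (htr : ∀ (u : V) (φ : V →ₗ[F] F), φ u = 0 → ∃ g, ∀ v, f g v = v + φ v • u) :
    HasRadicals p M := by
  intro D hD hne
  set W := fixedSpace f D
  have hW : W ≠ ⊥ := by
    obtain ⟨v, -, hv0, hv⟩ := exists_fixed (f := f) p hD (⊤ : AddSubgroup V) top_ne_bot
      fun _ _ _ _ => AddSubgroup.mem_top _
    exact fun e => hv0 ((Submodule.mem_bot F).1 (show v ∈ (⊥ : Submodule F V) from e ▸ hv))
  refine exists_radical_of_flag p hf W W le_rfl (fun g hg =>
    ⟨fun v hv => apply_mem_fixedSpace hg hv, fun v hv => apply_mem_fixedSpace hg hv⟩) fun x hx => ?_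
  obtain ⟨v1, hv1⟩ : ∃ v, v ∉ W := by
    by_contra hc
    push Not at hc
    exact fixedSpace_ne_top hf hne (eq_top_iff.2 fun v _ => hc v)
  have hcomm : ∀ u ∈ W, ∀ φ : V →ₗ[F] F, (∀ w ∈ W, φ w = 0) → ∀ v,
      φ v • f x u = φ (f x v) • u := by
    intro u hu φ hφ v
    obtain ⟨g, hg⟩ := htr u φ (hφ u hu)
    have hgQ : g ∈ flagGroup f W W le_rfl :=
      ⟨fun v => by rw [hg, add_sub_cancel_left]; exact Submodule.smul_mem _ _ hu,
        fun v _ => by rw [hg, add_sub_cancel_left]; exact Submodule.smul_mem _ _ hu,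
        fun v hv => by rw [hg, hφ v hv, zero_smul, add_zero]⟩
    have e := congrArg (fun z => f z v) (hx g hgQ)
    simp only [map_mul, Module.End.mul_apply, hg, map_add, map_smul] at e
    exact add_left_cancel e
  obtain ⟨φ0, hφv, hφ0⟩ := Submodule.exists_le_ker_of_notMem hv1
  have hφW : ∀ w ∈ W, φ0 w = 0 := fun w hw => LinearMap.mem_ker.1 (hφ0 hw)
  refine ⟨φ0 (f x v1) / φ0 v1, ?_⟩
  set c := φ0 (f x v1) / φ0 v1 with hc
  have h3 : ∀ u ∈ W, f x u = c • u := fun u hu => by
    have e := congrArg (fun z => (φ0 v1)⁻¹ • z) (hcomm u hu φ0 hφW v1)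
    simp only [smul_smul, inv_mul_cancel₀ hφv, one_smul] at e
    rw [e, hc, div_eq_inv_mul]
  have h1 : ∀ v, f x v - c • v ∈ W := by
    intro v
    by_contra hnot
    obtain ⟨φ, hφv', hφ⟩ := Submodule.exists_le_ker_of_notMem hnot
    obtain ⟨u, hu, hu0⟩ := Submodule.exists_mem_ne_zero_of_ne_bot hW
    have e := hcomm u hu φ (fun w hw => LinearMap.mem_ker.1 (hφ hw)) v
    rw [h3 u hu, smul_smul, ← sub_eq_zero, ← sub_smul] at e
    refine hφv' ?_
    rw [map_sub, map_smul, smul_eq_mul]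
    linear_combination -((smul_eq_zero.1 e).resolve_right hu0)
  exact ⟨h1, fun v _ => h1 v, h3⟩

end Group

end Cfsg.Agent.DefectLie
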