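import Cfsg.Agent.Lib.DefectLie.Flag

/-!
The flag `W ≤ W^⊥` of an invariant totally isotropic subspace in a group of isometries containing
the root elements along `W`.
-/

set_option autoImplicit false
set_option linter.unusedSectionVars false

namespace Cfsg.Agent.DefectLie

variable {F V : Type*} [Field F] [AddCommGroup V] [Module F V] {M : Type*} [Group M]
  {f : M →* Module.End F V} {σ : F →+* F} [RingHomSurjective σ]
  (φ : V →ₛₗ[σ] V →ₗ[F] F)

/-- The orthogonal of a subspace. -/
def perp (W : Submodule F V) : Submodule F V := Submodule.dualCoannihilator (W.map φ)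

theorem mem_perp {W : Submodule F V} {v : V} : v ∈ perp φ W ↔ ∀ u ∈ W, φ u v = 0 := by
  rw [perp, Submodule.mem_dualCoannihilator]
  exact ⟨fun h u hu => h _ (Submodule.mem_map_of_mem hu), fun h _ ⟨u, hu, e⟩ => e ▸ h u hu⟩

/-- A group of isometries of a nondegenerate reflexive form. -/
structure IsoData (f : M →* Module.End F V) : Prop where
  inj : Function.Injective f
  iso : ∀ g x y, φ (f g x) (f g y) = φ x y
  symm : ∀ x y, φ x y = 0 → φ y x = 0
  sep : Function.Injective φ
  dim : 3 ≤ Module.finrank F V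

variable {φ}

theorem perp_perp [FiniteDimensional F V] (hd : IsoData φ f) {W : Submodule F V} {v : V}
    (h : ∀ w ∈ perp φ W, φ w v = 0) : v ∈ W := by
  have h1 : φ v ∈ Submodule.dualAnnihilator (perp φ W) :=
    (Submodule.mem_dualAnnihilator _).2 fun w hw => hd.symm _ _ (h w hw)
  rw [perp, Subspace.dualCoannihilator_dualAnnihilator_eq] at h1
  obtain ⟨u, hu, e⟩ := h1
  exact hd.sep e ▸ hu

variable (φ) in
/-- The radical of the fixed space. -/
def fixedRadical (f : M →* Module.End F V) (D : Subgroup M) : Submodule F V :=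
  fixedSpace f D ⊓ perp φ (fixedSpace f D)

theorem fixedRadical_le_perp (D : Subgroup M) :
    fixedRadical φ f D ≤ perp φ (fixedRadical φ f D) := fun _ hv =>
  (mem_perp φ).2 fun u hu => (mem_perp φ).1 hv.2 u hu.1

theorem apply_mem_perp (hd : IsoData φ f) {W : Submodule F V} {g : M}
    (hW : ∀ v ∈ W, f g⁻¹ v ∈ W) {v : V} (hv : v ∈ perp φ W) : f g v ∈ perp φ W :=
  (mem_perp φ).2 fun u hu => by
    rw [← apply_inv_apply f g u, hd.iso]
    exact (mem_perp φ).1 hv _ (hW u hu)

theorem stab_inv {D : Subgroup M} {g : M} (hg : ∀ d, d ∈ D ↔ g * d * g⁻¹ ∈ D) :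
    ∀ d, d ∈ D ↔ g⁻¹ * d * g⁻¹⁻¹ ∈ D := fun d => by
  conv_rhs => rw [hg (g⁻¹ * d * g⁻¹⁻¹)]
  simp [mul_assoc]

theorem stab_mem {D : Subgroup M} {g : M} (hg : g ∈ D) : ∀ d, d ∈ D ↔ g * d * g⁻¹ ∈ D := fun d =>
  ⟨fun h => D.mul_mem (D.mul_mem hg h) (D.inv_mem hg), fun h => by
    simpa [mul_assoc] using D.mul_mem (D.mul_mem (D.inv_mem hg) h) hg⟩

theorem apply_mem_fixedRadical (hd : IsoData φ f) {D : Subgroup M} {g : M}
    (hg : ∀ d, d ∈ D ↔ g * d * g⁻¹ ∈ D) {v : V} (hv : v ∈ fixedRadical φ f D) :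
    f g v ∈ fixedRadical φ f D :=
  ⟨apply_mem_fixedSpace hg hv.1,
    apply_mem_perp hd (fun _ hu => apply_mem_fixedSpace (stab_inv hg) hu) hv.2⟩

theorem sub_mem_perp_fixedSpace (hd : IsoData φ f) {D : Subgroup M} {d : M} (hdD : d ∈ D) (z : V) :
    f d z - z ∈ perp φ (fixedSpace f D) := (mem_perp φ).2 fun y hy => by
  rw [map_sub]
  nth_rw 1 [← hy d hdD]
  rw [hd.iso, sub_self]

theorem fixedRadical_ne_bot [Finite V] (p : ℕ) [Fact p.Prime] [CharP F p] (hd : IsoData φ f)
    {D : Subgroup M} (hD : IsPGroup p D) (hne : D ≠ ⊥) : fixedRadical φ f D ≠ ⊥ := by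
  have hS : (perp φ (fixedSpace f D)).toAddSubgroup ≠ ⊥ := by
    intro e
    refine fixedSpace_ne_top hd.inj hne (eq_top_iff.2 fun v _ d hdD => sub_eq_zero.1 ?_)
    exact (AddSubgroup.eq_bot_iff_forall _).1 e _ (sub_mem_perp_fixedSpace hd hdD v)
  obtain ⟨v, hv, hv0, hvfix⟩ := exists_fixed (f := f) p hD _ hS fun d hdD v hv =>
    apply_mem_perp hd (fun _ hu => apply_mem_fixedSpace (stab_inv (stab_mem hdD)) hu) hv
  exact fun e => hv0 ((Submodule.mem_bot F).1 (e ▸ ⟨hvfix, hv⟩))

/-- The root elements along `W` present in `M`. -/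
def HasRoots (f : M →* Module.End F V) (φ : V →ₛₗ[σ] V →ₗ[F] F) (W : Submodule F V) (e : F) :
    Prop :=
  ∀ u ∈ W, ∀ w ∈ perp φ W, ∃ (g : M) (a : F), ∀ v,
    f g v = v + φ u v • w + (a * φ u v + e * φ w v) • u

theorem mem_flag_of_root (hd : IsoData φ f) {W : Submodule F V} (hW : W ≤ perp φ W) {g : M}
    {a e : F} {u w : V} (hu : u ∈ W) (hw : w ∈ perp φ W)
    (hg : ∀ v, f g v = v + φ u v • w + (a * φ u v + e * φ w v) • u) :
    g ∈ flagGroup f W (perp φ W) hW := by
  refine ⟨fun v => ?_, fun v hv => ?_, fun v hv => ?_⟩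
  · rw [hg, add_assoc, add_sub_cancel_left]
    exact add_mem (Submodule.smul_mem _ _ hw) (Submodule.smul_mem _ _ (hW hu))
  · rw [hg, (mem_perp φ).1 hv u hu, zero_smul, add_zero, add_sub_cancel_left]
    exact Submodule.smul_mem _ _ hu
  · rw [hg, (mem_perp φ).1 (hW hv) u hu, hd.symm _ _ ((mem_perp φ).1 hw v hv)]
    simp

/-- A map commuting with the root elements along `W` is a scalar modulo the flag. -/
theorem exists_scalar [FiniteDimensional F V] (hd : IsoData φ f) {W : Submodule F V}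
    (hne : W ≠ ⊥) (hW : W ≤ perp φ W) {e : F} (he : e ≠ 0) (hT : HasRoots f φ W e) {x : M}
    (hx : ∀ r ∈ flagGroup f W (perp φ W) hW, x * r = r * x)
    (hline : perp φ W ≤ W → ∀ u ∈ W, ∃ c : F, f x u = c • u) :
    ∃ c : F, (∀ v, f x v - c • v ∈ perp φ W) ∧ (∀ v ∈ perp φ W, f x v - c • v ∈ W) ∧
      ∀ v ∈ W, f x v = c • v := by
  set X := f x with hX
  have hcomm : ∀ u ∈ W, ∀ w ∈ perp φ W, ∃ a : F, ∀ v,
      φ u v • X w + (a * φ u v + e * φ w v) • X u =
        φ u (X v) • w + (a * φ u (X v) + e * φ w (X v)) • u := by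
    intro u hu w hw
    obtain ⟨g, a, hg⟩ := hT u hu w hw
    refine ⟨a, fun v => ?_⟩
    have h := congrArg (fun z => f z v) (hx g (mem_flag_of_root hd hW hu hw hg))
    simp only [map_mul, Module.End.mul_apply, hg, map_add, map_smul, ← hX, add_assoc] at h
    exact add_left_cancel h
  obtain ⟨u0, hu0W, hu0⟩ := Submodule.exists_mem_ne_zero_of_ne_bot hne
  by_cases hPW : perp φ W ≤ W
  · -- `W` is its own orthogonal
    have hl := hline hPW
    obtain ⟨c, hc⟩ := hl u0 hu0W
    have h3 : ∀ u ∈ W, X u = c • u := by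
      intro u hu
      obtain ⟨c', hc'⟩ := hl u hu
      by_cases hdep : u ∈ Submodule.span F {u0}
      · obtain ⟨t, rfl⟩ := Submodule.mem_span_singleton.1 hdep
        rw [map_smul, hc, smul_comm]
      · obtain ⟨c'', hc''⟩ := hl (u + u0) (add_mem hu hu0W)
        rw [map_add, hc, hc', smul_add] at hc''
        have hcc : (c' - c'') • u = (c'' - c) • u0 := by
          rw [sub_smul, sub_smul]
          linear_combination (norm := abel) hc''
        have h1 : c' = c'' := sub_eq_zero.1 (by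
          by_contra h0
          exact hdep (Submodule.mem_span_singleton.2 ⟨(c' - c'')⁻¹ * (c'' - c), by
            rw [mul_smul, ← hcc, inv_smul_smul₀ h0]⟩))
        rw [h1, sub_self, zero_smul, eq_comm, smul_eq_zero, sub_eq_zero] at hcc
        rw [hc', h1, hcc.resolve_right hu0]
    have h1 : ∀ v, X v - c • v ∈ perp φ W := fun v => (mem_perp φ).2 fun u hu => by
      by_cases hu0' : u = 0
      · rw [hu0', map_zero, LinearMap.zero_apply]
      obtain ⟨w, hw, hwu⟩ : ∃ w ∈ W, w ∉ Submodule.span F {u} := by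
        by_contra hc'
        push Not at hc'
        have hle : LinearMap.ker (φ u) ≤ Submodule.span F {u} := fun z hz =>
          hc' z (hPW ((mem_perp φ).2 fun y hy => by
            obtain ⟨t, rfl⟩ := Submodule.mem_span_singleton.1 (hc' y hy)
            rw [map_smulₛₗ, LinearMap.smul_apply, LinearMap.mem_ker.1 hz, smul_zero]))
        have h1 := (φ u).finrank_range_add_finrank_ker
        have h2 := Submodule.finrank_mono hle
        have h4 := Submodule.finrank_le (LinearMap.range (φ u))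
        rw [finrank_span_singleton hu0'] at h2
        rw [Module.finrank_self] at h4
        have := hd.dim
        omega
      obtain ⟨a, ha⟩ := hcomm u hu w (hW hw)
      have h := ha v
      rw [h3 w hw, h3 u hu, smul_smul, smul_smul] at h
      have hs : (φ u v * c - φ u (X v)) • w ∈ Submodule.span F {u} := by
        rw [Submodule.mem_span_singleton]
        exact ⟨(a * φ u (X v) + e * φ w (X v)) - (a * φ u v + e * φ w v) * c, by
          rw [sub_smul, sub_smul]; linear_combination (norm := abel) -h⟩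
      have h0 : φ u v * c - φ u (X v) = 0 := by
        by_contra h0
        exact hwu (inv_smul_smul₀ h0 w ▸ Submodule.smul_mem _ _ hs)
      rw [map_sub, map_smul, smul_eq_mul]
      linear_combination -h0
    exact ⟨c, h1, fun v _ => hPW (h1 v), h3⟩
  · obtain ⟨w0, hw0, hw0W⟩ := SetLike.not_le_iff_exists.1 hPW
    have hsmul : ∀ t : F, t • w0 ∈ W → t = 0 := fun t ht => by
      by_contra h0
      exact hw0W (inv_smul_smul₀ h0 w0 ▸ W.smul_mem _ ht)
    have hXW : ∀ y ∈ W, X y ∈ W := by
      intro y hy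
      have hfix : ∀ u ∈ W, ∀ w ∈ perp φ W, ∃ a : F,
          φ u (X y) • w + (a * φ u (X y) + e * φ w (X y)) • u = 0 := by
        intro u hu w hw
        obtain ⟨a, ha⟩ := hcomm u hu w hw
        refine ⟨a, (ha y).symm.trans ?_⟩
        rw [(mem_perp φ).1 (hW hy) u hu, hd.symm _ _ ((mem_perp φ).1 hw y hy)]
        simp
      have hXP : X y ∈ perp φ W := (mem_perp φ).2 fun u hu => hsmul _ (by
        obtain ⟨a, ha⟩ := hfix u hu w0 hw0
        rw [eq_neg_of_add_eq_zero_left ha]
        exact neg_mem (W.smul_mem _ hu))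
      refine perp_perp hd fun w hw => ?_
      obtain ⟨a, ha⟩ := hfix u0 hu0W w hw
      rw [(mem_perp φ).1 hXP u0 hu0W, zero_smul, zero_add, mul_zero, zero_add, smul_eq_zero] at ha
      exact (mul_eq_zero.1 (ha.resolve_right hu0)).resolve_left he
    have hXP : ∀ v ∈ perp φ W, X v ∈ perp φ W := fun v hv => (mem_perp φ).2 fun u hu => hsmul _ (by
      obtain ⟨a, ha⟩ := hcomm u hu w0 hw0
      have h := ha v
      rw [(mem_perp φ).1 hv u hu] at h
      rw [show φ u (X v) • w0 =
          ((0 : F) • X w0 + (a * 0 + e * φ w0 v) • X u) -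
            (a * φ u (X v) + e * φ w0 (X v)) • u by rw [h, add_sub_cancel_right]]
      exact sub_mem (add_mem (by rw [zero_smul]; exact W.zero_mem) (W.smul_mem _ (hXW u hu)))
        (W.smul_mem _ hu))
    have hkey : ∀ u ∈ W, ∀ w ∈ perp φ W, ∀ v ∈ perp φ W, φ w v • X u = φ w (X v) • u := by
      intro u hu w hw v hv
      obtain ⟨a, ha⟩ := hcomm u hu w hw
      have h := ha v
      rw [(mem_perp φ).1 hv u hu, (mem_perp φ).1 (hXP v hv) u hu] at h
      simp only [zero_smul, zero_add, mul_zero, mul_smul] at h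
      simpa [he] using congrArg (e⁻¹ • ·) h
    obtain ⟨w1, hw1, hw10⟩ : ∃ w ∈ perp φ W, φ w w0 ≠ 0 := by
      by_contra hc
      push Not at hc
      exact hw0W (perp_perp hd hc)
    refine ⟨φ w1 (X w0) / φ w1 w0, ?_⟩
    set c := φ w1 (X w0) / φ w1 w0 with hc
    have h3 : ∀ u ∈ W, X u = c • u := fun u hu => by
      have h := congrArg ((φ w1 w0)⁻¹ • ·) (hkey u hu w1 hw1 w0 hw0)
      simp only [smul_smul, inv_mul_cancel₀ hw10, one_smul] at h
      rw [h, hc, div_eq_inv_mul]
    have h2 : ∀ v ∈ perp φ W, X v - c • v ∈ W := fun v hv => perp_perp hd fun w hw => by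
      have h := hkey u0 hu0W w hw v hv
      rw [h3 u0 hu0W, smul_smul] at h
      rw [map_sub, map_smul, smul_eq_mul, sub_eq_zero, mul_comm]
      exact (smul_left_injective F hu0 h).symm
    refine ⟨fun v => (mem_perp φ).2 fun u hu => ?_, h2, h3⟩
    obtain ⟨a, ha⟩ := hcomm u hu w0 hw0
    have h := ha v
    rw [h3 u hu] at h
    have hs : (φ u v * c - φ u (X v)) • w0 ∈ W := by
      rw [show (φ u v * c - φ u (X v)) • w0 = (a * φ u (X v) + e * φ w0 (X v)) • u -
          (a * φ u v + e * φ w0 v) • c • u - φ u v • (X w0 - c • w0) by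
        rw [sub_smul, mul_smul, smul_sub]
        linear_combination (norm := abel) h]
      exact sub_mem (sub_mem (W.smul_mem _ hu) (W.smul_mem _ (W.smul_mem _ hu)))
        (W.smul_mem _ (h2 w0 hw0))
    rw [map_sub, map_smul, smul_eq_mul]
    linear_combination -(hsmul _ hs)

/-- Lines from transvections. -/
theorem line_of_transvection (hd : IsoData φ f) {W : Submodule F V} (hW : W ≤ perp φ W) {x : M}
    (hx : ∀ r ∈ flagGroup f W (perp φ W) hW, x * r = r * x)
    (ht : ∀ u ∈ W, ∃ (g : M) (a : F), a ≠ 0 ∧ ∀ v, f g v = v + (a * φ u v) • u) :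
    ∀ u ∈ W, ∃ c : F, f x u = c • u := by
  intro u hu
  by_cases hu0 : u = 0
  · exact ⟨0, by simp [hu0]⟩
  obtain ⟨g, a, ha, hg⟩ := ht u hu
  obtain ⟨v, hv⟩ : ∃ v, φ u v ≠ 0 := by
    by_contra hc
    push Not at hc
    exact hu0 (hd.sep (LinearMap.ext fun v => by simp [hc v]))
  have hmem : g ∈ flagGroup f W (perp φ W) hW := by
    refine ⟨fun v => ?_, fun v _ => ?_, fun v hv => ?_⟩
    · rw [hg, add_sub_cancel_left]
      exact Submodule.smul_mem _ _ (hW hu)
    · rw [hg, add_sub_cancel_left]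
      exact Submodule.smul_mem _ _ hu
    · rw [hg, (mem_perp φ).1 (hW hv) u hu, mul_zero, zero_smul, add_zero]
  have h := congrArg (fun z => f z v) (hx g hmem)
  simp only [map_mul, Module.End.mul_apply, hg, map_add, map_smul] at h
  refine ⟨(a * φ u v)⁻¹ * (a * φ u (f x v)), ?_⟩
  rw [mul_smul, ← add_left_cancel h, inv_smul_smul₀ (mul_ne_zero ha hv)]

/-- Lines from planes: `W` of dimension at least three. -/
theorem line_of_planes [FiniteDimensional F V] (hd : IsoData φ f) {W : Submodule F V}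
    (hW : W ≤ perp φ W) {e : F} (he : e ≠ 0) (hT : HasRoots f φ W e) {x : M}
    (hx : ∀ r ∈ flagGroup f W (perp φ W) hW, x * r = r * x)
    (h3 : 3 ≤ Module.finrank F W) :
    ∀ u ∈ W, ∃ c : F, f x u = c • u := by
  intro u hu
  by_cases hu0 : u = 0
  · exact ⟨0, by simp [hu0]⟩
  have hplane : ∀ w ∈ W, w ∉ Submodule.span F {u} → f x u ∈ Submodule.span F {u, w} := by
    intro w hw hwu
    obtain ⟨v, hv, hwv⟩ : ∃ v, φ u v = 0 ∧ φ w v ≠ 0 := by
      by_contra hc
      push Not at hc
      exact hwu (perp_perp hd fun v hv => hd.symm _ _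
        (hc v ((mem_perp φ).1 hv u (Submodule.mem_span_singleton_self u))))
    obtain ⟨g, a, hg⟩ := hT u hu w (hW hw)
    have h := congrArg (fun z => f z v) (hx g (mem_flag_of_root hd hW hu (hW hw) hg))
    simp only [map_mul, Module.End.mul_apply, hg, map_add, map_smul, hv, zero_smul, zero_add,
      mul_zero, add_zero, add_assoc] at h
    have h' := add_left_cancel h
    rw [show f x u = (e * φ w v)⁻¹ • (e * φ w v) • f x u by
      rw [inv_smul_smul₀ (mul_ne_zero he hwv)], h']
    exact Submodule.smul_mem _ _ (add_mem (Submodule.smul_mem _ _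
      (Submodule.subset_span (by simp))) (Submodule.smul_mem _ _ (Submodule.subset_span (by simp))))
  classical
  obtain ⟨w, hw, hwu⟩ : ∃ w ∈ W, w ∉ Submodule.span F {u} := by
    by_contra hc
    push Not at hc
    have := Submodule.finrank_mono (show W ≤ Submodule.span F {u} from hc)
    rw [finrank_span_singleton hu0] at this
    omega
  obtain ⟨w', hw', hwu'⟩ : ∃ w' ∈ W, w' ∉ Submodule.span F {u, w} := by
    by_contra hc
    push Not at hc
    have h1 := Submodule.finrank_mono (show W ≤ Submodule.span F (({u, w} : Finset V) : Set V) from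
      fun z hz => by simpa using hc z hz)
    have h2 : Module.finrank F (Submodule.span F (({u, w} : Finset V) : Set V)) ≤ 2 :=
      (finrank_span_finset_le_card (R := F) ({u, w} : Finset V)).trans Finset.card_le_two
    omega
  obtain ⟨a, b, hab⟩ := Submodule.mem_span_pair.1 (hplane w hw hwu)
  obtain ⟨a', b', hab'⟩ := Submodule.mem_span_pair.1 (hplane w' hw' fun h =>
    hwu' (Submodule.span_mono (by simp) h))
  refine ⟨a', ?_⟩
  have hb : b' = 0 := by
    by_contra hb
    refine hwu' (Submodule.mem_span_pair.2 ⟨b'⁻¹ * (a - a'), b'⁻¹ * b, ?_⟩)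
    rw [mul_smul, mul_smul, ← smul_add, inv_smul_eq_iff₀ hb, sub_smul]
    linear_combination (norm := abel) hab - hab'
  rw [← hab', hb, zero_smul, add_zero]

/-- The dimension of a self-orthogonal subspace. -/
theorem finrank_of_perp_eq [FiniteDimensional F V] {φ : V →ₗ[F] V →ₗ[F] F}
    (hinj : Function.Injective φ) {W : Submodule F V} (h : perp φ W = W) :
    2 * Module.finrank F W = Module.finrank F V := by
  have h1 := Subspace.finrank_add_finrank_dualCoannihilator_eq (W.map φ)
  rw [← (Submodule.equivMapOfInjective φ hinj W).finrank_eq] at h1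
  change Module.finrank F W + Module.finrank F (perp φ W) = _ at h1
  rw [h] at h1
  omega

/-- The conclusion at one subgroup. -/
theorem exists_radical_of_roots [Finite M] [Finite V] (p : ℕ) [Fact p.Prime] [CharP F p]
    (hd : IsoData φ f) {D : Subgroup M} {W : Submodule F V} (hne : W ≠ ⊥) (hW : W ≤ perp φ W)
    (hinv : ∀ g : M, (∀ d, d ∈ D ↔ g * d * g⁻¹ ∈ D) → ∀ v ∈ W, f g v ∈ W)
    {e : F} (he : e ≠ 0) (hT : HasRoots f φ W e)
    (hline : perp φ W ≤ W → ∀ x : M, (∀ r ∈ flagGroup f W (perp φ W) hW, x * r = r * x) →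
      ∀ u ∈ W, ∃ c : F, f x u = c • u) :
    ∃ R : Subgroup M, IsPGroup p R ∧
      (∀ g : M, (∀ d, d ∈ D ↔ g * d * g⁻¹ ∈ D) → ∀ r ∈ R, g * r * g⁻¹ ∈ R) ∧
      ∀ x : M, (∀ r ∈ R, x * r = r * x) → ¬ p ∣ orderOf x → x ∈ Subgroup.center M := by
  have : Nontrivial V := Module.nontrivial_of_finrank_pos (R := F) (Nat.lt_of_lt_of_le (by norm_num) hd.dim)
  exact exists_radical_of_flag p hd.inj W (perp φ W) hW (fun g hg =>
    ⟨hinv g hg, fun v hv => apply_mem_perp hd (hinv g⁻¹ (stab_inv hg)) hv⟩)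
    fun x hx => exists_scalar hd hne hW he hT hx fun hle => hline hle x hx

end Cfsg.Agent.DefectLie
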