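import Cfsg.Agent.Lib.DefectLie.Classical
import Cfsg.Agent.Lib.DefectLie.Exceptional

/-!
Groups of Lie type in their characteristic: shaped p-subgroups are trivial or Sylow, so every
p-block has defect zero or full defect.
-/

set_option autoImplicit false

namespace Cfsg.Agent.DefectLie

theorem extremal_of_lieType {G : Type*} [Group G] [Finite G] (p : ℕ) [Fact p.Prime]
    (hG : Cfsg.IsLieTypeChar p G) : Extremal p G := by
  rcases hG with h | h | h | h | h | h | h | h | h | h | h
  · exact extremal_psl p h
  · exact extremal_psp p h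
  · exact extremal_psu p h
  · exact extremal_pomegaOdd p h
  · exact extremal_pomegaPlus p h
  · exact extremal_pomegaMinus p h
  · exact extremal_exceptional p h
  · exact extremal_twisted p h
  · obtain ⟨rfl, F, _, _, m, hm, hF, ⟨e⟩⟩ := h
    exact Extremal.equiv 2 e.symm (extremal_suzuki hm hF)
  · obtain ⟨rfl, K, _, _, m, -, hK, ⟨e⟩⟩ := h
    exact Extremal.equiv 2 e.symm (extremal_twistedF4 hK)
  · obtain ⟨rfl, K, _, _, m, -, hK, ⟨e⟩⟩ := h
    exact Extremal.equiv 3 e.symm (extremal_ree hK)

end Cfsg.Agent.DefectLie
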