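import Cfsg.Agent.Lib.DefectLie.Split
import Cfsg.Agent.Lib.RootBN.ToBNPair

/-!
The split (B,N)-pair of root data in characteristic p, and the irreducibility criterion.
-/

set_option autoImplicit false
set_option linter.unusedSectionVars false

namespace Cfsg.Agent.DefectLie

open Cfsg Cfsg.Agent.BN

/-- The reflections of root data cannot be split into two commuting non-empty parts. -/
def RootConn {M : Type*} [Group M] {ι κ : Type*} (D : RootBN.Data M ι κ) : Prop :=
  ∀ (q : κ → Prop) (a b : κ), q a → ¬ q b →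
    ∃ i j, q i ∧ ¬ q j ∧ D.refl i * D.refl j ≠ D.refl j * D.refl i

theorem irreducible_of_rep {M : Type*} [Group M] {ι κ : Type*} [Finite ι] {D : RootBN.Data M ι κ}
    (ax : D.Axioms) {S : Subgroup M} (P : BNPair S) (hB : ∀ g ∈ P.B, (g : M) ∈ D.B)
    (hrep : ∀ s : P.S, ∃ i, ((s.1 : S) : M) = D.nn i)
    (hrep' : ∀ i, ∃ s : P.S, ((s.1 : S) : M) = D.nn i) (hconn : RootConn D) : Irreducible P := by
  intro J hJ
  refine or_iff_not_imp_left.2 fun hne => Set.eq_univ_iff_forall.2 fun t => ?_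
  by_contra ht
  obtain ⟨s, hs⟩ := Set.nonempty_iff_ne_empty.2 hne
  obtain ⟨a, ha⟩ := hrep s
  obtain ⟨b, hb⟩ := hrep t
  obtain ⟨i, j, ⟨si, hsi, ei⟩, hqj, hne'⟩ := hconn (fun i => ∃ s ∈ J, ((s.1 : S) : M) = D.nn i) a b
    ⟨s, hs, ha⟩ fun ⟨s', hs', e⟩ => ht (by
      obtain rfl : s' = t := Subtype.ext (Subtype.ext (e.trans hb.symm))
      exact hs')
  obtain ⟨sj, ej⟩ := hrep' j
  have hc := hJ si hsi sj fun h => hqj ⟨sj, h, ej⟩
  rw [BN.refl, BN.refl, ← QuotientGroup.mk_mul, ← QuotientGroup.mk_mul, mk_eq_mk] at hc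
  have hm := hB _ hc
  simp only [Subgroup.coe_mul, Subgroup.coe_inv, ei, ej] at hm
  have hN : (D.nn i * D.nn j)⁻¹ * (D.nn j * D.nn i) ∈ D.N :=
    D.N.mul_mem (D.N.inv_mem (D.N.mul_mem (RootBN.Data.nn_mem_N i) (RootBN.Data.nn_mem_N j)))
      (D.N.mul_mem (RootBN.Data.nn_mem_N j) (RootBN.Data.nn_mem_N i))
  have e := RootBN.Data.acts_unique ax
    ((((RootBN.Data.acts_nn ax i).mul (RootBN.Data.acts_nn ax j)).inv).mul
      ((RootBN.Data.acts_nn ax j).mul (RootBN.Data.acts_nn ax i)))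
    (RootBN.Data.acts_H ax ((RootBN.Data.N_inf_B ax).le ⟨hN, hm⟩))
  rw [inv_mul_eq_one] at e
  exact hne' e

theorem unipotentData_of_data {M : Type*} [Group M] {ι κ : Type*} [Finite ι]
    {D : RootBN.Data M ι κ} (ax : D.Axioms) (p : ℕ) (hUp : IsPGroup p D.U)
    (hidx : ¬ p ∣ (D.U.subgroupOf D.grp).index) :
    UnipotentData (RootBN.Data.bnPair ax) p (D.U.subgroupOf D.grp) := by
  have hmemB : ∀ b : ↥D.grp, b ∈ (RootBN.Data.bnPair ax).B ↔ (b : M) ∈ D.B :=
    fun b => Subgroup.mem_subgroupOf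
  have hUG : D.U ≤ D.grp := RootBN.Data.U_le_B.trans (RootBN.Data.B_le_grp ax)
  have hconj : ∀ i, ∀ b ∈ D.B, ∀ r ∈ D.Urad i, b * r * b⁻¹ ∈ D.Urad i := by
    intro i b hb r hr
    obtain ⟨y, hy, v, hv, h, hh, rfl⟩ := RootBN.Data.B_decomp ax i hb
    have h1 := RootBN.Data.H_conj_Urad ax hh hr
    have h2 := (D.Urad i).mul_mem ((D.Urad i).mul_mem hv h1) ((D.Urad i).inv_mem hv)
    have h3 := RootBN.Data.X_conj_Urad ax hy h2
    simpa [mul_assoc] using h3
  exact
    { le := fun b hb => (hmemB b).2 (RootBN.Data.U_le_B (Subgroup.mem_subgroupOf.1 hb))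
      isPGroup := hUp.of_equiv (Subgroup.subgroupOfEquivOfLe hUG).symm
      not_dvd := hidx
      normal := fun b hb u hu => by
        rw [hmemB] at hb
        rw [Subgroup.mem_subgroupOf] at hu ⊢
        obtain ⟨v, hv, h, hh, e⟩ := (RootBN.Data.mem_B_iff ax).1 hb
        have := Subgroup.mul_mem _ (Subgroup.mul_mem _ hv (RootBN.Data.H_conj_U ax hh hu))
          (Subgroup.inv_mem _ hv)
        simpa [e, mul_assoc] using this
      decomp := fun b hb => by
        rw [hmemB] at hb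
        obtain ⟨v, hv, h, hh, e⟩ := (RootBN.Data.mem_B_iff ax).1 hb
        exact ⟨⟨v, hUG hv⟩, Subgroup.mem_subgroupOf.2 hv, ⟨h, ax.H_le hh⟩,
          Subgroup.mem_subgroupOf.2 (RootBN.Data.H_le_N hh),
          (hmemB _).2 (RootBN.Data.H_le_B hh), Subtype.ext e⟩
      panel := fun s v hv a ha a' ha' hva => by
        obtain ⟨i, hi⟩ := s.2
        obtain ⟨b1, hb1, b2, hb2, rfl⟩ := BN.exists_of_mem_cell _ ha (BN.coe_mem_cell_refl _ s)
        obtain ⟨c1, hc1, c2, hc2, rfl⟩ := BN.exists_of_mem_cell _ ha' (BN.coe_mem_cell_refl _ s)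
        rw [hmemB] at hb1 hb2 hc1 hc2 hva ⊢
        rw [Subgroup.mem_subgroupOf] at hv
        simp only [Subgroup.coe_mul, Subgroup.coe_inv, hi] at hva ⊢
        have h1 : (D.nn i)⁻¹ * ((b1 : M)⁻¹ * v * b1) * D.nn i ∈ D.B := by
          have := Subgroup.mul_mem _ (Subgroup.mul_mem _ hb2 hva) (Subgroup.inv_mem _ hb2)
          simpa [mul_assoc] using this
        have hv1 : (b1 : M)⁻¹ * v * b1 ∈ D.U := by
          obtain ⟨u, hu, h, hh, e⟩ := (RootBN.Data.mem_B_iff ax).1 (Subgroup.inv_mem _ hb1)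
          have := Subgroup.mul_mem _ (Subgroup.mul_mem _ hu (RootBN.Data.H_conj_U ax hh hv))
            (Subgroup.inv_mem _ hu)
          rw [eq_comm, ← inv_eq_iff_eq_inv] at e
          rw [← e]
          simpa [mul_assoc] using this
        obtain ⟨y, hy, r, hr, e⟩ := RootBN.Data.U_eq_mul ax i hv1
        rw [e] at h1
        have hyB : (D.nn i)⁻¹ * y * D.nn i ∈ D.B := by
          have := Subgroup.mul_mem _ h1
            (Subgroup.inv_mem _ (RootBN.Data.Urad_le_B i (RootBN.Data.nn_inv_conj_Urad ax hr)))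
          simpa [mul_assoc] using this
        have hy1 : y = 1 := by
          have hact := (RootBN.Data.acts_nn ax i).inv (D.simp i) y
          rw [RootBN.Data.refl_inv ax, ax.refl_simp, inv_inv] at hact
          have hbot := ax.neg_not_mem _ (RootBN.Data.not_pos_opp_simp ax i)
          have hm : (D.nn i)⁻¹ * y * D.nn i ∈ D.X (D.opp (D.simp i)) ⊓ D.B := ⟨hact.2 hy, hyB⟩
          rw [hbot, Subgroup.mem_bot] at hm
          exact conj_eq_one_iff.1 (by rwa [inv_inv] : (D.nn i)⁻¹ * y * (D.nn i)⁻¹⁻¹ = 1)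
        have hvr : (v : M) ∈ D.Urad i := by
          have := hconj i _ hb1 r hr
          rw [hy1, one_mul] at e
          rw [← e] at this
          simpa [mul_assoc] using this
        have h2 := RootBN.Data.nn_inv_conj_Urad ax (hconj i _ (Subgroup.inv_mem _ hc1) _ hvr)
        have h3 := Subgroup.mul_mem _ (Subgroup.mul_mem _ (Subgroup.inv_mem _ hc2)
          (RootBN.Data.Urad_le_B i h2)) hc2
        simpa [mul_assoc] using h3 }

/-- If `B` has trivial core, nothing of `U` fixes a pair of opposite chambers. -/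
theorem eq_one_of_opposite {G : Type*} [Group G] [Finite G] (P : BNPair G)
    (hB : P.B.normalCore = ⊥) {p : ℕ} [Fact p.Prime] {U : Subgroup G} (hU : UnipotentData P p U) {n : P.N}
    (hn : NoAsc P (QuotientGroup.mk n)) :
    ∀ u ∈ U, (n : G)⁻¹ * u * n ∈ P.B → u = 1 := by
  intro u hu hun
  have hpar : par P (Set.univ : Set P.S) = ⊤ := by
    rw [par, Set.image_univ, Subtype.range_coe_subtype, Set.ofPred_mem_eq, parabolic_S]
  have hdesc : Desc P Set.univ (wIdx P (n : G)) := by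
    rw [wIdx_eq P (mem_cell_self P n)]
    exact fun s _ => hn s
  have hcore : u ∈ P.B.normalCore := fun g => by
    have := conj_mem_B_of_opposite P hU (J := Set.univ) (hpar ▸ Subgroup.mem_top _) hdesc hu hun
      (g := g⁻¹) (hpar ▸ Subgroup.mem_top _)
    simpa using this
  rwa [hB, Subgroup.mem_bot] at hcore

/-- Root data with trivial core of `B`. -/
theorem extremal_of_data {M : Type*} [Group M] {ι κ : Type*} [Finite ι]
    {D : RootBN.Data M ι κ} (ax : D.Axioms) {S : Subgroup M} [Finite S] (hS : D.grp = S)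
    (hcore : (D.B.subgroupOf S).normalCore = ⊥) (p : ℕ) [Fact p.Prime] (hUp : IsPGroup p D.U)
    (hidx : ¬ p ∣ (D.U.subgroupOf S).index) (hconn : RootConn D) : Extremal p ↥S := by
  subst hS
  set P := RootBN.Data.bnPair ax
  have hU := unipotentData_of_data ax p hUp hidx
  obtain ⟨w, hw, -⟩ := exists_noAsc P
  obtain ⟨n, rfl⟩ := QuotientGroup.mk_surjective w
  exact extremal_of_split P hU hw
    (eq_one_of_opposite P hcore hU hw)
    (irreducible_of_rep ax P (fun g hg => Subgroup.mem_subgroupOf.1 hg) (fun s => s.2)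
      (fun i => ⟨⟨⟨D.nn i, ax.nn_mem i⟩, i, rfl⟩, rfl⟩) hconn)

end Cfsg.Agent.DefectLie
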