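import Cfsg.Agent.Lib.DefectLie.Criterion
import Cfsg.Agent.Lib.BNPair.DefectZero

/-!
A finite group with an irreducible split (B,N)-pair of characteristic p: the shaped p-subgroups
are trivial or Sylow.
-/

set_option autoImplicit false
set_option linter.unusedSectionVars false

namespace Cfsg.Agent.DefectLie

open Cfsg Cfsg.Agent.BN

variable {G : Type*} [Group G] (P : BNPair G)

/-- No proper non-empty set of simple reflections commutes with its complement. -/
def Irreducible : Prop :=
  ∀ J : Set P.S, (∀ s ∈ J, ∀ t ∉ J, refl P s * refl P t = refl P t * refl P s) → J = ∅ ∨ J = Set.univ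

/-- The elements of `U` fixing the chamber of `g`. -/
def stabU (U : Subgroup G) (g : G) : Subgroup G := U ⊓ P.B.comap (MulAut.conj g⁻¹).toMonoidHom

theorem mem_stabU {U : Subgroup G} {g v : G} : v ∈ stabU P U g ↔ v ∈ U ∧ g⁻¹ * v * g ∈ P.B := by
  simp [stabU]

theorem word_comm {J : Set P.S} {w x : Weyl P}
    (h : ∀ s ∈ J, refl P s * w = w * refl P s) (hx : InW P J x) : x * w = w * x := by
  obtain ⟨l, hl, rfl⟩ := hx
  induction l with
  | nil => simp
  | cons s l ih =>
    rw [word_cons, mul_assoc, ih fun t ht => hl t (List.mem_cons_of_mem _ ht), ← mul_assoc,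
      h s (hl s List.mem_cons_self), mul_assoc]

theorem mem_of_desc {J : Set P.S} {x : Weyl P} (hx : InW P J x) {a : P.S}
    (h : ¬ len P x < len P (refl P a * x)) : a ∈ J := by
  obtain ⟨l, hl, rfl⟩ := hx
  obtain ⟨r, hr, hrw, hrl⟩ := exists_reduced_sublist P l hl
  rw [← hrw] at h hrl
  obtain ⟨i, -, hi⟩ := exchange P a r hrl (by omega)
  refine mem_of_word_eq_refl P (l := r.eraseIdx i ++ r.reverse) (fun s hs => ?_) ?_
  · rcases List.mem_append.1 hs with h | h
    exacts [hr s (List.mem_of_mem_eraseIdx h), hr s (List.mem_reverse.1 h)]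
  · rw [word_append, word_reverse, ← hi, mul_inv_cancel_right]

variable [Finite G]

theorem two_le_cellCount {p : ℕ} [Fact p.Prime] {U : Subgroup G} (hU : UnipotentData P p U)
    {r : Weyl P} (hr : r ≠ 1) : 2 ≤ cellCount P r := by
  obtain ⟨s, v, rfl, hlen⟩ := exists_descent P hr
  rw [cellCount_mul P (by rw [len_refl]; omega)]
  calc 2 = 2 * 1 := rfl
    _ ≤ _ := Nat.mul_le_mul (two_le_cellCount_refl P hU s) (cellCount_pos P v)

section split

variable {p : ℕ} [Fact p.Prime] {U : Subgroup G} (hU : UnipotentData P p U) {n0 : P.N}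
  (hn0 : NoAsc P (QuotientGroup.mk n0))
  (htriv : ∀ u ∈ U, (n0 : G)⁻¹ * u * n0 ∈ P.B → u = 1)

include hU in
theorem card_stabU (n : P.N) :
    cellCount P (QuotientGroup.mk n) * Nat.card (stabU P U (n : G)) = Nat.card U := by
  rw [← cellCount_mul_stab P hU n]
  congr 1
  exact Nat.card_congr
    { toFun := fun v => ⟨⟨v.1, ((mem_stabU P).1 v.2).1⟩, ((mem_stabU P).1 v.2).2⟩
      invFun := fun v => ⟨v.1.1, (mem_stabU P).2 ⟨v.1.2, v.2⟩⟩
      left_inv := fun _ => rfl
      right_inv := fun _ => rfl }

include hU hn0 htriv in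
theorem cellCount_top : cellCount P (QuotientGroup.mk n0) = Nat.card U := by
  have h := card_stabU P hU n0
  have : stabU P U (n0 : G) = ⊥ := (Subgroup.eq_bot_iff_forall _).2 fun v hv =>
    htriv v ((mem_stabU P).1 hv).1 ((mem_stabU P).1 hv).2
  rwa [this, Subgroup.card_bot, mul_one] at h

include hn0 in
theorem exists_top_factor (x : Weyl P) :
    ∃ a, QuotientGroup.mk n0 = x * a ∧ len P (QuotientGroup.mk n0) = len P x + len P a := by
  obtain ⟨l, rfl, hl⟩ := exists_reduced P x
  obtain ⟨a, e, hlen⟩ := exists_factor_of_noLeftAsc P (NoAsc.noLeftAsc P hn0) l hl.symm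
  exact ⟨a, e, by rw [hlen, hl]⟩

theorem stab_le_of_prefix {x y : Weyl P} (h : len P (x * y) = len P x + len P y) {n : P.N}
    (hn : QuotientGroup.mk n = x * y) {v : G} (hv : v ∈ P.B)
    (hvn : (n : G)⁻¹ * v * n ∈ P.B) : ∃ a' ∈ cell P x, a'⁻¹ * v * a' ∈ P.B := by
  obtain ⟨a', ha', z, hz, e⟩ := exists_factor P (hn ▸ mem_cell_self P n)
  exact ⟨a', ha', conj_mem_B_of_prefix P h ha' hz hv (by rw [← e]; exact hvn)⟩

include hU in
theorem stabU_le_of_desc {n : P.N} {s : P.S}
    (h : ¬ len P (QuotientGroup.mk n) < len P (refl P s * QuotientGroup.mk n)) :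
    stabU P U (n : G) ≤ stabU P U (s : G) := by
  intro v hv
  obtain ⟨hvU, hvn⟩ := (mem_stabU P).1 hv
  have hl : len P (refl P s * (refl P s * QuotientGroup.mk n)) =
      len P (refl P s) + len P (refl P s * QuotientGroup.mk n) := by
    rw [refl_cancel_left, len_refl]
    rcases len_refl_mul_cases P s (QuotientGroup.mk n) with h1 | h1 <;> omega
  obtain ⟨a, ha, hva⟩ := stab_le_of_prefix P hl (n := n) (refl_cancel_left P s _).symm
    (hU.le hvU) hvn
  exact (mem_stabU P).2 ⟨hvU, hU.panel s v hvU a ha _ (coe_mem_cell_refl P s) hva⟩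

include hU hn0 htriv in
/-- An element fixing every chamber `x` of the apartment with `s` no left descent of `x`, moving
the `s`-neighbour of the base chamber. -/
theorem exists_moving (s : P.S) :
    ∃ v ∈ U, (∀ m : P.N, len P (QuotientGroup.mk m) < len P (refl P s * QuotientGroup.mk m) →
      (m : G)⁻¹ * v * m ∈ P.B) ∧ ∀ a ∈ cell P (refl P s), a⁻¹ * v * a ∉ P.B := by
  obtain ⟨nx, hnx⟩ := QuotientGroup.mk_surjective (refl P s * QuotientGroup.mk n0 : Weyl P)
  have hlx : len P (refl P s * QuotientGroup.mk n0) + 1 = len P (QuotientGroup.mk n0) := by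
    rcases len_refl_mul_cases P s (QuotientGroup.mk n0) with h | h
    · exact absurd (by omega) (NoAsc.noLeftAsc P hn0 s)
    · exact h
  obtain ⟨v, hv, hv1⟩ : ∃ v ∈ stabU P U (nx : G), v ≠ 1 := by
    by_contra hc
    push Not at hc
    have hbot : stabU P U (nx : G) = ⊥ := (Subgroup.eq_bot_iff_forall _).2 hc
    have h1 := card_stabU P hU nx
    rw [hbot, Subgroup.card_bot, mul_one, hnx, ← cellCount_top P hU hn0 htriv] at h1
    have h2 := cellCount_mul P (x := refl P s) (y := refl P s * QuotientGroup.mk n0)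
      (by rw [refl_cancel_left, len_refl]; omega)
    rw [refl_cancel_left, ← h1] at h2
    have h3 := two_le_cellCount_refl P hU s
    have h4 := cellCount_pos P (refl P s * QuotientGroup.mk n0)
    rw [h1] at h4 h2
    nlinarith
  obtain ⟨hvU, hvn⟩ := (mem_stabU P).1 hv
  refine ⟨v, hvU, fun m hm => ?_, fun a ha hva => hv1 ?_⟩
  · obtain ⟨r, er, hlr⟩ := exists_top_factor P hn0 (refl P s * QuotientGroup.mk m)
    have e : refl P s * QuotientGroup.mk n0 = QuotientGroup.mk m * r := by
      rw [er, mul_assoc, refl_cancel_left]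
    have hadd : len P (QuotientGroup.mk m * r) = len P (QuotientGroup.mk m) + len P r := by
      rw [← e]
      rcases len_refl_mul_cases P s (QuotientGroup.mk m) with h | h <;> omega
    have hz : ((m⁻¹ * nx : P.N) : G) ∈ cell P r := by
      have : (QuotientGroup.mk (m⁻¹ * nx) : Weyl P) = r := by
        rw [QuotientGroup.mk_mul, QuotientGroup.mk_inv, hnx, e, inv_mul_cancel_left]
      exact this ▸ mem_cell_self P (m⁻¹ * nx)
    exact conj_mem_B_of_prefix P hadd (mem_cell_self P m) hz (hU.le hvU) (by simpa using hvn)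
  · have hai : a⁻¹ ∈ cell P (refl P s) := by simpa [refl_inv] using inv_mem_cell P ha
    have hc : a⁻¹ * nx ∈ cell P (QuotientGroup.mk n0) := by
      have := mul_mem_of_len_le P (s := s) (w := refl P s * QuotientGroup.mk n0)
        (by rw [refl_cancel_left]; omega) hai (hnx ▸ mem_cell_self P nx)
      rwa [refl_cancel_left] at this
    obtain ⟨b, hb, u, hu, e⟩ := exists_left P hU hc
    have h1 : a⁻¹ * v * a ∈ U := conj_mem_U P hU hvU hva
    have h2 : b⁻¹ * (a⁻¹ * v * a) * b ∈ U := by
      have := hU.normal _ (P.B.inv_mem hb) _ h1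
      rwa [inv_inv] at this
    have h3 : (n0 : G)⁻¹ * (b⁻¹ * (a⁻¹ * v * a) * b) * n0 =
        u * ((nx : G)⁻¹ * v * nx) * u⁻¹ := by
      have : (nx : G) = a * (b * n0 * u) := by rw [← e]; group
      rw [this]; group
    have h4 := htriv _ h2 (by
      rw [h3]
      exact P.B.mul_mem (P.B.mul_mem (hU.le hu) hvn) (P.B.inv_mem (hU.le hu)))
    have h5 : v = a * b * (b⁻¹ * (a⁻¹ * v * a) * b) * (a * b)⁻¹ := by group
    rw [h5, h4]; group

include hU hn0 htriv in
/-- The reflections which are no left descents commute with `n`. -/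
theorem comm_of_centralises {n : P.N} {c : G} (hc : c ∈ P.B)
    (hcomm : ∀ v ∈ stabU P U (n : G), (n : G) * c * v = v * ((n : G) * c)) {s : P.S}
    (hs : len P (QuotientGroup.mk n) < len P (refl P s * QuotientGroup.mk n)) :
    refl P s * QuotientGroup.mk n = QuotientGroup.mk n * refl P s := by
  obtain ⟨v, hvU, hvfix, hvmove⟩ := exists_moving P hU hn0 htriv s
  set w : Weyl P := QuotientGroup.mk n with hw
  have hy : (n : G) * c ∈ cell P w := by
    simpa using mul_mem_cell P (mem_cell_self P n) P.B.one_mem hc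
  have hcv := hcomm v ((mem_stabU P).2 ⟨hvU, hvfix n hs⟩)
  have hmove : ∀ a ∈ cell P (refl P s), ((n : G) * c * a)⁻¹ * v * ((n : G) * c * a) ∉ P.B := by
    intro a ha
    have : ((n : G) * c * a)⁻¹ * v * ((n : G) * c * a) = a⁻¹ * v * a := by
      calc _ = a⁻¹ * (((n : G) * c)⁻¹ * (v * ((n : G) * c))) * a := by group
        _ = _ := by rw [← hcv]; group
    rw [this]
    exact hvmove a ha
  have h1 : len P (w * refl P s) = len P w + 1 := by
    have := len_mul_refl_ne P w s
    have := len_mul_refl_le P w s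
    by_contra hne
    obtain ⟨a1, ha1, z, hz, e⟩ := exists_factor P (w := w * refl P s) (v := refl P s)
      (g := (n : G) * c) (by rwa [refl_cancel_right])
    have hzi : z⁻¹ ∈ cell P (refl P s) := by simpa [refl_inv] using inv_mem_cell P hz
    have hlen : len P (w * refl P s * refl P s) = len P (w * refl P s) + len P (refl P s) := by
      have := len_mul_refl_le P (w * refl P s) s
      rw [refl_cancel_right] at this
      rw [refl_cancel_right, len_refl]
      omega
    refine hmove _ hzi ?_
    rw [show (n : G) * c * z⁻¹ = a1 by rw [e, mul_inv_cancel_right]]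
    refine conj_mem_B_of_prefix P hlen ha1 hz (hU.le hvU) ?_
    rw [← e]
    have h2 := hvfix n hs
    have := P.B.mul_mem (P.B.mul_mem (P.B.inv_mem hc) h2) hc
    simpa [mul_assoc] using this
  -- now `s w s` is not longer than `w s`
  have h2 : ¬ len P (w * refl P s) < len P (refl P s * (w * refl P s)) := by
    intro hlt
    set σ : P.N := ⟨s.1, P.subset s.2⟩
    have h3 := hvfix (n * σ) (by rw [QuotientGroup.mk_mul]; exact hlt)
    refine hmove (c⁻¹ * (s : G)) ?_ ?_
    · simpa using mul_mem_cell P (coe_mem_cell_refl P s) (P.B.inv_mem hc) P.B.one_mem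
    · rw [show (n : G) * c * (c⁻¹ * (s : G)) = (n : G) * (s : G) by group]
      exact h3
  obtain ⟨l, hl, hll⟩ := exists_reduced P w
  have hws : word P (l ++ [s]) = w * refl P s := by rw [word_append, word_singleton, hl]
  obtain ⟨i, hi, hi'⟩ := exchange P s (l ++ [s])
    (by rw [hws, List.length_append, List.length_singleton]; omega)
    (by rw [hws, List.length_append, List.length_singleton]; omega)
  rw [hws] at hi'
  rw [List.length_append, List.length_singleton] at hi
  by_cases hil : i < l.length
  · exfalso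
    rw [List.eraseIdx_append_of_lt_length hil, word_append, word_singleton, ← mul_assoc] at hi'
    have h3 := mul_right_cancel hi'
    have h4 := len_word_le P (l.eraseIdx i)
    rw [← h3, List.length_eraseIdx, if_pos hil] at h4
    omega
  · obtain rfl : i = l.length := by omega
    rw [List.eraseIdx_append_of_length_le le_rfl] at hi'
    simp only [Nat.sub_self, List.eraseIdx_zero, List.tail_cons, List.append_nil, hl] at hi'
    calc refl P s * w = refl P s * (refl P s * (w * refl P s)) := by rw [hi']
      _ = w * refl P s := refl_cancel_left P s _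

/-- The non-descents. -/
def keep (n : P.N) : Set P.S :=
  {s | len P (QuotientGroup.mk n) < len P (refl P s * QuotientGroup.mk n)}

include hU hn0 htriv in
theorem mem_keep_iff {n : P.N} {s : P.S} :
    s ∈ keep P n ↔ ∃ v ∈ stabU P U (n : G), (s : G)⁻¹ * v * s ∉ P.B := by
  constructor
  · intro hs
    obtain ⟨v, hvU, hfix, hmove⟩ := exists_moving P hU hn0 htriv s
    exact ⟨v, (mem_stabU P).2 ⟨hvU, hfix n hs⟩, hmove _ (coe_mem_cell_refl P s)⟩
  · rintro ⟨v, hv, hvs⟩
    by_contra hns
    exact hvs ((mem_stabU P).1 (stabU_le_of_desc P hU hns hv)).2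

include hU hn0 htriv in
/-- A centralised stabiliser is that of `w_J w_0`. -/
theorem exists_longest_factor {n : P.N} {c : G} (hc : c ∈ P.B)
    (hcomm : ∀ v ∈ stabU P U (n : G), (n : G) * c * v = v * ((n : G) * c)) :
    ∃ wJ, InW P (keep P n) wJ ∧ (∀ s ∈ keep P n, ¬ len P wJ < len P (refl P s * wJ)) ∧
      QuotientGroup.mk n0 = wJ * QuotientGroup.mk n ∧
      len P (QuotientGroup.mk n0) = len P wJ + len P (QuotientGroup.mk n) ∧
      cellCount P wJ = Nat.card (stabU P U (n : G)) := by
  set w : Weyl P := QuotientGroup.mk n with hw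
  obtain ⟨wJ, hJ, -, hJl⟩ := exists_longest_inW P (keep P n)
  have hasc : Asc P ∅ (keep P n) w⁻¹ := by
    refine ⟨fun s hs => absurd hs (Set.notMem_empty s), fun s hs => ?_⟩
    rw [len_inv, ← len_inv P (w⁻¹ * refl P s), mul_inv_rev, inv_inv, refl_inv]
    exact hs
  have hadd : ∀ u, InW P (keep P n) u → len P (u * w) = len P u + len P w := by
    intro u hu
    have := len_mul_of_asc P hasc hu.inv
    rw [← mul_inv_rev, len_inv, len_inv, len_inv] at this
    omega
  have hcw : wJ * w = w * wJ :=
    word_comm P (fun s hs => comm_of_centralises P hU hn0 htriv hc hcomm hs) hJ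
  have hno : ∀ s : P.S, ¬ len P (wJ * w) < len P (refl P s * (wJ * w)) := by
    intro s
    have h1 := hadd wJ hJ
    by_cases hs : s ∈ keep P n
    · have h2 := hadd _ ((inW_refl P hs).mul hJ)
      have h3 := hJl s hs
      rw [← mul_assoc]
      omega
    · have h2 := len_mul_le P (refl P s * w) wJ
      have h3 : ¬ len P w < len P (refl P s * w) := hs
      have h4 := len_refl_mul_ne P s w
      rw [hcw, ← mul_assoc]
      rw [hcw] at h1
      omega
  have hw0 : QuotientGroup.mk n0 = wJ * w :=
    noLeftAsc_unique P (NoAsc.noLeftAsc P hn0) hno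
  refine ⟨wJ, hJ, hJl, hw0, by rw [hw0]; exact hadd wJ hJ, ?_⟩
  have h1 := card_stabU P hU n
  rw [← cellCount_top P hU hn0 htriv, hw0, cellCount_mul P (hadd wJ hJ), ← hw] at h1
  exact (Nat.eq_of_mul_eq_mul_right (cellCount_pos P w)
    (h1.symm.trans (mul_comm _ _))).trans rfl

include hU in
/-- The structure of a shaped subgroup of `U`. -/
theorem exists_shape {D : Subgroup G} (hD : Shaped p D) (hDU : D ≤ U) :
    ∃ b ∈ P.B, ∃ (n : P.N) (c : G), c ∈ P.B ∧ (∀ v, v ∈ stabU P U (n : G) ↔ b * v * b⁻¹ ∈ D) ∧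
      ∀ v ∈ stabU P U (n : G), (n : G) * c * v = v * ((n : G) * c) := by
  set S : Sylow p G := hU.isPGroup.toSylow hU.not_dvd
  have hS : (S : Subgroup G) = U := IsPGroup.toSylow_coe _ _
  obtain ⟨x, -, hxc, e⟩ := hD.2.2 S (hS.symm ▸ hDU)
  rw [hS] at e
  obtain ⟨n, hn⟩ := QuotientGroup.mk_surjective (wIdx P x)
  obtain ⟨b, hb, u, hu, rfl⟩ := exists_left P hU (n := n) (hn ▸ mem_cell_wIdx P x)
  have hnorm : ∀ v, b * v * b⁻¹ ∈ U ↔ v ∈ U := fun v => by
    refine ⟨fun h => ?_, hU.normal b hb v⟩
    simpa [mul_assoc] using hU.normal _ (P.B.inv_mem hb) _ h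
  have hmem : ∀ v, v ∈ stabU P U (n : G) ↔ b * v * b⁻¹ ∈ D := by
    intro v
    rw [← e, Subgroup.mem_inf, hnorm, mem_stabU]
    refine and_congr_right fun hv => ?_
    simp only [Subgroup.mem_map, MulEquiv.coe_toMonoidHom, MulAut.conj_apply]
    constructor
    · intro h
      refine ⟨u⁻¹ * ((n : G)⁻¹ * v * n) * u, ?_, by group⟩
      exact U.mul_mem (U.mul_mem (U.inv_mem hu) (conj_mem_U P hU hv h)) hu
    · rintro ⟨z, hz, ez⟩
      have : (n : G)⁻¹ * v * n = u * z * u⁻¹ := by
        calc (n : G)⁻¹ * v * n = (n : G)⁻¹ * (b⁻¹ * (b * v * b⁻¹) * b) * n := by group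
          _ = _ := by rw [← ez]; group
      rw [this]
      exact hU.le (U.mul_mem (U.mul_mem hu hz) (U.inv_mem hu))
  refine ⟨b, hb, n, u * b, P.B.mul_mem (hU.le hu) hb, hmem, fun v hv => ?_⟩
  have := hxc _ ((hmem v).1 hv)
  calc (n : G) * (u * b) * v = b⁻¹ * (b * n * u * (b * v * b⁻¹)) * b := by group
    _ = _ := by rw [this]; group

include hU hn0 htriv in
/-- The main theorem. -/
theorem extremal_of_split (hirr : Irreducible P) : Extremal p G := by
  intro D0 hD0
  set S : Sylow p G := hU.isPGroup.toSylow hU.not_dvd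
  have hS : (S : Subgroup G) = U := IsPGroup.toSylow_coe _ _
  obtain ⟨Q, hQ⟩ := hD0.1.exists_le_sylow
  obtain ⟨g, rfl⟩ := MulAction.exists_smul_eq G S Q
  suffices key : ∀ D : Subgroup G, Shaped p D → D ≤ U → D = ⊥ ∨ D = U by
    have hmem : ∀ y, y ∈ ((g • S : Sylow p G) : Subgroup G) ↔ g⁻¹ * y * g ∈ U := fun y => by
      rw [Sylow.coe_subgroup_smul, Subgroup.mem_pointwise_smul_iff_inv_smul_mem, hS]
      simp
    rcases key _ (hD0.comap p (MulAut.conj g)) (fun y hy => by
      have := (hmem _).1 (hQ hy)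
      simpa [mul_assoc] using this) with h | h
    · left
      rw [← Subgroup.map_comap_eq_self_of_surjective (f := (MulAut.conj g).toMonoidHom)
        (MulAut.conj g).surjective D0, h, Subgroup.map_bot]
    · refine Or.inr ⟨g • S, le_antisymm (fun y hy => ?_) hQ⟩
      have : g⁻¹ * y * g ∈ D0.comap (MulAut.conj g).toMonoidHom := h ▸ (hmem y).1 hy
      simpa [mul_assoc] using this
  intro D hD hDU
  obtain ⟨b, hb, n, c, hc, hmem, hcomm⟩ := exists_shape P hU hD hDU
  obtain ⟨wJ, hJ, hJl, hw0, hlen, hcard⟩ := exists_longest_factor P hU hn0 htriv hc hcomm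
  set w : Weyl P := QuotientGroup.mk n with hw
  by_cases hempty : keep P n = ∅
  · left
    refine (Subgroup.eq_bot_iff_forall _).2 fun y hy => ?_
    have hwJ : wJ = 1 := by
      obtain ⟨l, hl, rfl⟩ := hJ
      rw [hempty] at hl
      rw [List.eq_nil_iff_forall_not_mem.2 fun s hs => (hl s hs).elim, word_nil]
    rw [hwJ, cellCount_one] at hcard
    have hbot := Subgroup.card_eq_one.1 hcard.symm
    have hy' : b⁻¹ * y * b ∈ stabU P U (n : G) := (hmem _).2 (by simpa [mul_assoc] using hy)
    rw [hbot, Subgroup.mem_bot] at hy'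
    calc y = b * (b⁻¹ * y * b) * b⁻¹ := by group
      _ = 1 := by rw [hy']; group
  by_cases huniv : keep P n = Set.univ
  · right
    have hw1 : w = 1 := by
      by_contra hne
      obtain ⟨s, v, hv, hl⟩ := exists_descent P hne
      have hs : s ∈ keep P n := huniv ▸ Set.mem_univ s
      have : len P w < len P (refl P s * w) := hs
      rw [hv, refl_cancel_left, ← hv] at this
      omega
    refine le_antisymm hDU fun y hy => ?_
    have hy' : b⁻¹ * y * b ∈ U := by simpa using hU.normal _ (P.B.inv_mem hb) y hy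
    have hnB : (n : G) ∈ P.B := (mk_eq_one P).1 hw1
    have := (hmem _).1 ((mem_stabU P).2
      ⟨hy', P.B.mul_mem (P.B.mul_mem (P.B.inv_mem hnB) (hU.le hy')) hnB⟩)
    simpa [mul_assoc] using this
  exfalso
  obtain ⟨a, ha, β, hβ, hab⟩ : ∃ a ∈ keep P n, ∃ β ∉ keep P n,
      refl P a * refl P β ≠ refl P β * refl P a := by
    by_contra hcon
    push Not at hcon
    exact (hirr _ hcon).elim hempty huniv
  -- move by the reflection outside
  have hle := stabU_le_of_desc P hU (n := n) (s := β) hβ
  set e := (MulAut.conj (β : G)).trans (MulAut.conj b)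
  set D' := D.comap e.toMonoidHom
  have hmem' : ∀ v, v ∈ D' ↔ (β : G) * v * (β : G)⁻¹ ∈ stabU P U (n : G) := fun v => by
    rw [hmem]
    simp [D', e, mul_assoc]
  have hD'U : D' ≤ U := fun v hv => by
    obtain ⟨h1, h2⟩ := (mem_stabU P).1 (hle ((hmem' v).1 hv))
    simpa [mul_assoc] using conj_mem_U P hU h1 h2
  obtain ⟨b', hb', n', c', hc', hmem'', hcomm'⟩ := exists_shape P hU (hD.comap p e) hD'U
  obtain ⟨wJ', hJ', -, -, -, hcard'⟩ := exists_longest_factor P hU hn0 htriv hc' hcomm'
  have hsub : ∀ γ ∈ keep P n', γ ∈ keep P n ∧ refl P γ * refl P β = refl P β * refl P γ := by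
    intro γ hγ
    obtain ⟨v1, hv1, hv1γ⟩ := (mem_keep_iff P hU hn0 htriv).1 hγ
    have hv1U := ((mem_stabU P).1 hv1).1
    set v2 := b' * v1 * b'⁻¹ with hv2
    have hv2D : v2 ∈ D' := (hmem'' v1).1 hv1
    have hv2γ : ∀ a ∈ cell P (refl P γ), a⁻¹ * v2 * a ∉ P.B := fun a ha h => by
      refine hv1γ (hU.panel γ v1 hv1U (b'⁻¹ * a) ?_ _ (coe_mem_cell_refl P γ) ?_)
      · simpa using mul_mem_cell P ha (P.B.inv_mem hb') P.B.one_mem
      · simpa [hv2, mul_assoc] using h
    set v := (β : G) * v2 * (β : G)⁻¹ with hvdef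
    obtain ⟨hvU, hvn⟩ := (mem_stabU P).1 ((hmem' v2).1 hv2D)
    have hγβ : γ ≠ β := by
      rintro rfl
      refine hv2γ _ (coe_mem_cell_refl P γ) ?_
      have h2 := P.B.mul_mem (P.B.mul_mem (P.B.inv_mem (P.sq_mem _ γ.2)) (hU.le hvU))
        (P.sq_mem _ γ.2)
      simpa [hvdef, mul_assoc] using h2
    have hl2 : len P ((refl P β) * refl P γ) = len P (refl P β) + len P (refl P γ) := by
      rcases len_refl_mul_cases P β (refl P γ) with h | h
      · rw [h, len_refl, len_refl]
      · rw [len_refl] at h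
        have : (refl P β) * refl P γ = 1 := (len_eq_zero P).1 (by omega)
        exact absurd (refl_injective P ((eq_inv_of_mul_eq_one_right this).trans (refl_inv P β)))
          hγβ
    -- `β γ` is no prefix of `w`
    have hβd : len P ((refl P β) * w) + 1 = len P w := by
      rcases len_refl_mul_cases P β w with h | h
      · exact absurd (show len P w < len P ((refl P β) * w) by omega) hβ
      · exact h
    have hγd : len P (refl P γ * ((refl P β) * w)) = len P ((refl P β) * w) + 1 := by
      rcases len_refl_mul_cases P γ ((refl P β) * w) with h | h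
      · exact h
      · exfalso
        have hpre : len P ((refl P β) * refl P γ * (refl P γ * ((refl P β) * w))) =
            len P ((refl P β) * refl P γ) + len P (refl P γ * ((refl P β) * w)) := by
          rw [← mul_assoc, refl_cancel_right, refl_cancel_left, hl2, len_refl,
            len_refl]
          omega
        set q : P.N := ⟨β.1, P.subset β.2⟩ * ⟨γ.1, P.subset γ.2⟩ with hq
        have hqm : (QuotientGroup.mk q : Weyl P) = (refl P β) * refl P γ := by
          rw [hq, QuotientGroup.mk_mul]; rfl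
        have hzm : (QuotientGroup.mk (q⁻¹ * n) : Weyl P) = refl P γ * ((refl P β) * w) := by
          rw [QuotientGroup.mk_mul, QuotientGroup.mk_inv, hqm, mul_inv_rev, refl_inv, refl_inv,
            mul_assoc]
        have h1 := conj_mem_B_of_prefix P hpre (hqm ▸ mem_cell_self P q)
          (hzm ▸ mem_cell_self P (q⁻¹ * n)) (hU.le hvU) (by simpa using hvn)
        refine hv2γ _ (coe_mem_cell_refl P γ) ?_
        simpa [hvdef, hq, mul_assoc] using h1
    obtain ⟨r, hr⟩ : ∃ r : Weyl P, r = wJ⁻¹ := ⟨_, rfl⟩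
    have hrJ : InW P (keep P n) r := hr ▸ hJ.inv
    -- in terms of the longest element
    have htop : ∀ x, len P (x * QuotientGroup.mk n0) + len P x = len P (QuotientGroup.mk n0) := by
      intro x
      obtain ⟨q, eq, hq⟩ := exists_top_factor P hn0 x⁻¹
      rw [len_inv] at hq
      have : x * QuotientGroup.mk n0 = q := by rw [eq, mul_inv_cancel_left]
      rw [this]; omega
    have hwr : w = r * QuotientGroup.mk n0 := by rw [hw0, hr, inv_mul_cancel_left]
    have e1 := htop ((refl P β) * r)
    have e2 := htop (refl P γ * ((refl P β) * r))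
    have e3 := htop r
    rw [mul_assoc (refl P β) r, ← hwr] at e1
    rw [mul_assoc (refl P γ), mul_assoc (refl P β) r, ← hwr] at e2
    rw [← hwr] at e3
    -- exchange
    obtain ⟨l, hl, hlw⟩ := hrJ
    obtain ⟨l', hl', hlw', hll⟩ := exists_reduced_sublist P l hl
    rw [hlw] at hlw' hll
    obtain ⟨i, hi, hi'⟩ := exchange P γ (β :: l')
      (by rw [word_cons, hlw', List.length_cons]; omega)
      (by rw [word_cons, hlw', List.length_cons]; omega)
    rw [word_cons, hlw'] at hi'
    cases i with
    | zero =>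
      exfalso
      rw [List.eraseIdx_cons_zero, hlw'] at hi'
      have h1 : refl P γ * (refl P β) = 1 := mul_right_cancel (b := r) (by rw [mul_assoc, hi', one_mul])
      exact hγβ (refl_injective P (by
        rw [← mul_one (refl P γ), ← refl_mul_self P β, ← mul_assoc, h1, one_mul]))
    | succ i =>
      rw [List.eraseIdx_cons_succ, word_cons] at hi'
      set u := (refl P β) * refl P γ * (refl P β) with hu
      have huJ : InW P (keep P n) u := by
        refine ⟨l'.eraseIdx i ++ l'.reverse, fun s hs => ?_, ?_⟩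
        · rcases List.mem_append.1 hs with h | h
          exacts [hl' s (List.mem_of_mem_eraseIdx h), hl' s (List.mem_reverse.1 h)]
        · rw [word_append, word_reverse, hlw', hu]
          calc word P (l'.eraseIdx i) * r⁻¹ = (refl P β) * ((refl P β) * word P (l'.eraseIdx i)) * r⁻¹ := by
                rw [refl_cancel_left]
            _ = _ := by rw [← hi']; group
      -- `u` has length one
      have hasc : Asc P ∅ (keep P n) (refl P β) := by
        refine ⟨fun s hs => absurd hs (Set.notMem_empty s), fun s hs => ?_⟩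
        rcases len_refl_mul_cases P β (refl P s) with h | h
        · rw [len_refl] at h ⊢; omega
        · exfalso
          rw [len_refl] at h
          have h0 : refl P β * refl P s = 1 := (len_eq_zero P).1 (by omega)
          have he : β = s := refl_injective P (by
            rw [← mul_one (refl P β), ← refl_mul_self P s, ← mul_assoc, h0, one_mul])
          exact hβ (he ▸ hs)
      have hlu := len_mul_of_asc P hasc huJ
      have eu : (refl P β) * u = refl P γ * (refl P β) := by rw [hu, mul_assoc, refl_cancel_left]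
      rw [eu, len_refl] at hlu
      have hu1 : len P u = 1 := by
        have h6 := len_refl_mul_le P γ (refl P β)
        rw [len_refl] at h6
        have h7 : len P u ≠ 0 := fun h0 => by
          have := (len_eq_zero P).1 h0
          rw [this, mul_one] at eu
          exact refl_ne_one P γ (mul_right_cancel (b := (refl P β)) (by rw [one_mul, ← eu]))
        omega
      obtain ⟨m, hm, hml⟩ := exists_reduced P u
      rw [hu1] at hml
      obtain ⟨t, rfl⟩ := List.length_eq_one_iff.1 hml
      rw [word_singleton] at hm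
      have htJ : t ∈ keep P n := by
        obtain ⟨q, hq, hqw⟩ := huJ
        exact mem_of_word_eq_refl P hq (hqw.trans hm.symm)
      have hγ3 : refl P γ = (refl P β) * refl P t * (refl P β) := by
        rw [hm, hu]; simp [mul_assoc, refl_cancel_left, refl_mul_self]
      have htγ : γ = t := by
        rcases mem_of_word_eq_refl P (s := γ) (J := ({β, t} : Set P.S)) (l := [β, t, β])
          (by simp) (by simp [hγ3, mul_assoc]) with h | h
        · exact absurd h hγβ
        · exact h
      subst htγ
      refine ⟨htJ, ?_⟩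
      conv_lhs => rw [hγ3, mul_assoc, refl_mul_self, mul_one]
  -- the count
  have hsub' : keep P n' ⊆ keep P n := fun γ hγ => (hsub γ hγ).1
  have hJ'n : InW P (keep P n) wJ' := by
    obtain ⟨l, hl, rfl⟩ := hJ'
    exact ⟨l, fun s hs => hsub' (hl s hs), rfl⟩
  obtain ⟨r, hr, hrl⟩ := exists_factor_InW P hJl hJ'n
  have hr1 : r ≠ 1 := by
    rintro rfl
    rw [mul_one] at hr
    exact hab (hsub a (mem_of_desc P (hr ▸ hJ') (hJl a ha))).2
  have h1 := cellCount_mul P (x := wJ') (y := r) (by rw [← hr]; exact hrl)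
  rw [← hr, hcard, hcard'] at h1
  have h2 : Nat.card (stabU P U (n' : G)) = Nat.card (stabU P U (n : G)) :=
    Nat.card_congr
      { toFun := fun v => ⟨(β : G) * (b' * v * b'⁻¹) * (β : G)⁻¹,
          (hmem' _).1 ((hmem'' _).1 v.2)⟩
        invFun := fun v => ⟨b'⁻¹ * ((β : G)⁻¹ * v * β) * b', (hmem'' _).2 (by
          rw [show b' * (b'⁻¹ * ((β : G)⁻¹ * v * β) * b') * b'⁻¹ = (β : G)⁻¹ * v * β by group, hmem']
          rw [show (β : G) * ((β : G)⁻¹ * v * β) * (β : G)⁻¹ = v by group]
          exact v.2)⟩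
        left_inv := fun v => Subtype.ext (by simp [mul_assoc])
        right_inv := fun v => Subtype.ext (by simp [mul_assoc]) }
  rw [h2] at h1
  have := two_le_cellCount P hU hr1
  have := Nat.card_pos (α := stabU P U (n : G))
  nlinarith

end split

end Cfsg.Agent.DefectLie
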